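import Cfsg.Agent.Lib.Invol.Goldschmidt.RankTwo.Setting
import Cfsg.Agent.Lib.PGroups.MaxAbelian

/-!
Owner: helper18.  G1, case alpha: a maximal normal abelian subgroup `R` over `A` has exponent four and
`A` consists of squares of `R`.
-/

set_option autoImplicit false
set_option linter.unusedSectionVars false
set_option linter.style.haveILetI false

namespace CfsgLib.Goldschmidt.RankTwo

open Subgroup

variable {G : Type*} [Group G] [Finite G]

/-- `g r g⁻¹ r⁻¹`. -/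
def mu (g r : G) : G := g * r * g⁻¹ * r⁻¹

/-- Some outer involution is central in `S` modulo `A`. -/
def CentralMod (S : Sylow 2 G) (A : Subgroup G) : Prop :=
  ∃ x ∈ (S : Subgroup G), x * x = 1 ∧ x ∉ A ∧ ∀ g ∈ (S : Subgroup G), mu g x ∈ A

/-- A normal abelian subgroup that is its own centraliser, with all involutions in `A`. -/
structure Rad (S : Sylow 2 G) (A R : Subgroup G) : Prop where
  set : Setting S A
  none : ¬ CentralMod S A
  le : R ≤ (S : Subgroup G)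
  ge : A ≤ R
  comm : ∀ r ∈ R, ∀ t ∈ R, Commute r t
  norm : ∀ g ∈ (S : Subgroup G), ∀ r ∈ R, g * r * g⁻¹ ∈ R
  self : ∀ g ∈ (S : Subgroup G), (∀ r ∈ R, Commute g r) → g ∈ R
  omega : ∀ r ∈ R, r * r = 1 → r ∈ A

theorem exists_pow_exact {H : Subgroup G} (hH : IsPGroup 2 H) {r : G} (hr : r ∈ H) {j : ℕ}
    (h : r ^ 2 ^ j ≠ 1) : ∃ k, (r ^ k) ^ 2 ^ j ≠ 1 ∧ (r ^ k) ^ 2 ^ (j + 1) = 1 := by
  obtain ⟨n, hn⟩ := IsPGroup.iff_orderOf.1 hH ⟨r, hr⟩
  rw [Subgroup.orderOf_mk] at hn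
  have hjn : j < n := by
    by_contra hle
    exact h (orderOf_dvd_iff_pow_eq_one.1 (hn ▸ pow_dvd_pow 2 (not_lt.1 hle)))
  refine ⟨2 ^ (n - j - 1), fun he => ?_, ?_⟩
  · rw [← pow_mul, ← pow_add, ← orderOf_dvd_iff_pow_eq_one, hn, Nat.pow_dvd_pow_iff_le_right one_lt_two] at he
    omega
  · rw [← pow_mul, ← pow_add, ← orderOf_dvd_iff_pow_eq_one, hn]
    exact pow_dvd_pow 2 (by omega)

theorem Setting.exists_rad {S : Sylow 2 G} {A : Subgroup G} (s : Setting S A) (h : ¬ CentralMod S A) :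
    ∃ R, Rad S A R ∧ ∃ r ∈ R, r ∉ A := by
  haveI : Fact (Nat.Prime 2) := ⟨Nat.prime_two⟩
  set A' := A.subgroupOf (S : Subgroup G) with hA'
  have hA'c : A' ≤ center (S : Subgroup G) := fun a ha =>
    mem_center_iff.2 fun g => Subtype.ext (s.central a ha g g.2).eq.symm
  haveI : A'.Normal := ⟨fun a ha g => by rw [mem_center_iff.1 (hA'c ha) g, mul_inv_cancel_right]; exact ha⟩
  haveI hA'comm : IsMulCommutative A' := ⟨⟨fun a b => Subtype.ext (mem_center_iff.1 (hA'c b.2) a)⟩⟩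
  obtain ⟨R', hAR, hRn, hRc, hRs⟩ := CfsgLib.PGroups.exists_selfCentralizing (p := 2) S.2
    (A₀ := A') inferInstance hA'comm
  haveI := hRn
  haveI := hRc
  set R := R'.map (S : Subgroup G).subtype with hR
  have hmem : ∀ r : (S : Subgroup G), r ∈ R' → (r : G) ∈ R := fun r hr => ⟨r, hr, rfl⟩
  have hcomm : ∀ r ∈ R, ∀ t ∈ R, Commute r t := by
    rintro _ ⟨r, hr, rfl⟩ _ ⟨t, ht, rfl⟩
    exact congrArg Subtype.val (setLike_mul_comm hr ht : r * t = t * r)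
  have hself : ∀ g ∈ (S : Subgroup G), (∀ r ∈ R, Commute g r) → g ∈ R := fun g hg hc => by
    refine hmem ⟨g, hg⟩ (hRs ▸ mem_centralizer_iff.2 fun r hr => Subtype.ext ?_)
    exact (hc r (hmem r hr)).eq.symm
  have homega : ∀ r ∈ R, r * r = 1 → r ∈ A := by
    rintro _ ⟨r, hr, rfl⟩ hr2
    by_contra hrA
    let W : Subgroup (S : Subgroup G) :=
      { carrier := {t | t ∈ R' ∧ t * t = 1}
        one_mem' := ⟨one_mem _, one_mul 1⟩
        mul_mem' := by
          rintro a b ⟨ha, ha2⟩ ⟨hb, hb2⟩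
          refine ⟨mul_mem ha hb, ?_⟩
          have e : b * a = a * b := setLike_mul_comm hb ha
          rw [mul_assoc, ← mul_assoc b a b, e, mul_assoc a b b, hb2, mul_one, ha2]
        inv_mem' := by
          rintro a ⟨ha, ha2⟩
          exact ⟨inv_mem ha, by rw [← mul_inv_rev, ha2, inv_one]⟩ }
    haveI : W.Normal := ⟨fun a ⟨ha, ha2⟩ g => ⟨hRn.conj_mem a ha g, by
      rw [show g * a * g⁻¹ * (g * a * g⁻¹) = g * (a * a) * g⁻¹ by group, ha2, mul_one, mul_inv_cancel]⟩⟩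
    set f := QuotientGroup.mk' A'
    haveI : (W.map f).Normal := Normal.map inferInstance f (QuotientGroup.mk'_surjective A')
    have hne : W.map f ≠ ⊥ := fun hb => by
      rw [Subgroup.map_eq_bot_iff, QuotientGroup.ker_mk'] at hb
      exact hrA (mem_subgroupOf.1 (hb ⟨hr, Subtype.ext hr2⟩))
    have := CfsgLib.PGroups.inf_center_ne_bot (S.2.to_quotient A') hne
    rw [Ne, eq_bot_iff_forall] at this
    push Not at this
    obtain ⟨q, ⟨⟨w, ⟨hwR, hw2⟩, rfl⟩, hqc⟩, hq1⟩ := this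
    have hwA : (w : G) ∉ A := fun hw => hq1 ((QuotientGroup.eq_one_iff w).2 (mem_subgroupOf.2 hw))
    refine h ⟨w, w.2, congrArg Subtype.val hw2, hwA, fun g hg => ?_⟩
    have e : f ((⟨g, hg⟩ : (S : Subgroup G)) * w * (⟨g, hg⟩ : (S : Subgroup G))⁻¹ * w⁻¹) = 1 := by
      rw [map_mul, map_mul, map_mul, mem_center_iff.1 hqc, map_inv, map_inv, mul_inv_cancel_right,
        mul_inv_cancel]
    exact mem_subgroupOf.1 ((QuotientGroup.eq_one_iff _).1 e)
  refine ⟨R, ⟨s, h, map_subtype_le R', fun a ha => hmem ⟨a, s.le ha⟩ (hAR (mem_subgroupOf.2 ha)), hcomm,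
    ?_, hself, homega⟩, ?_⟩
  · rintro g hg _ ⟨r, hr, rfl⟩
    exact hmem _ (hRn.conj_mem r hr ⟨g, hg⟩)
  · by_contra hall
    push Not at hall
    obtain ⟨u, hu, hu2, huA⟩ := s.out
    exact huA (hall u (hself u hu fun r hr => (s.central r (hall r hr) u hu).symm))

namespace Rad

variable {S : Sylow 2 G} {A R : Subgroup G} (d : Rad S A R)

include d

/-- An outer involution fixes in `R` only `A`. -/
theorem fixed {x : G} (hx : x ∈ (S : Subgroup G)) (hx2 : x * x = 1) (hxA : x ∉ A) {r : G} (hr : r ∈ R)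
    (hc : Commute r x) : r ∈ A := by
  refine d.omega r hr ?_
  by_contra h
  obtain ⟨k, hk1, hk2⟩ := exists_pow_exact S.2 (d.le hr) (j := 1) (by rwa [pow_one, pow_two])
  set y := r ^ k with hy
  have hyA : y * y ∈ A := d.omega _ (mul_mem (pow_mem hr k) (pow_mem hr k)) (by
    rw [← hk2]; simp [pow_succ, mul_assoc])
  have hmem : y * y ∈ Subgroup.closure ((fun z => z * z) '' (zpowers y : Set G)) :=
    Subgroup.subset_closure ⟨y, mem_zpowers y, rfl⟩
  have hbot := (d.set.bad x hx hx2 hxA).squares (zpowers y) (zpowers_le.2 (d.le (pow_mem hr k)))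
    (fun z hz => by
      obtain ⟨i, rfl⟩ := mem_zpowers_iff.1 hz
      exact (hc.pow_left k).zpow_left i)
  have : y * y ∈ (⊥ : Subgroup G) := hbot ▸ ⟨hmem, hyA⟩
  exact hk1 (by rw [pow_one, pow_two]; exact mem_bot.1 this)

theorem mul_conj_mem {x : G} (hx : x ∈ (S : Subgroup G)) (hx2 : x * x = 1) (hxA : x ∉ A) {r : G}
    (hr : r ∈ R) : r * (x * r * x⁻¹) ∈ A := by
  have hxr := d.norm x hx r hr
  refine d.fixed hx hx2 hxA (mul_mem hr hxr) ?_
  have h1 : x⁻¹ = x := inv_eq_of_mul_eq_one_right hx2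
  have h2 : x * (r * (x * r * x⁻¹)) * x⁻¹ = r * (x * r * x⁻¹) :=
    calc x * (r * (x * r * x⁻¹)) * x⁻¹ = x * r * x⁻¹ * ((x * x) * r * (x * x)⁻¹) := by group
      _ = x * r * x⁻¹ * r := by rw [hx2]; group
      _ = _ := (d.comm _ hxr r hr).eq
  exact (mul_inv_eq_iff_eq_mul.1 h2).symm

theorem mu_mem {g r : G} (hg : g ∈ (S : Subgroup G)) (hr : r ∈ R) (hr2 : r * r ∈ A) : mu g r ∈ A := by
  have hgr := d.norm g hg r hr
  refine d.omega _ (mul_mem hgr (inv_mem hr)) ?_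
  show g * r * g⁻¹ * r⁻¹ * (g * r * g⁻¹ * r⁻¹) = 1
  calc g * r * g⁻¹ * r⁻¹ * (g * r * g⁻¹ * r⁻¹)
      = g * r * g⁻¹ * (r⁻¹ * (g * r * g⁻¹)) * r⁻¹ := by group
    _ = g * r * g⁻¹ * (g * r * g⁻¹ * r⁻¹) * r⁻¹ := by rw [((d.comm r hr _ hgr).inv_left).eq]
    _ = g * (r * r) * g⁻¹ * (r * r)⁻¹ := by group
    _ = 1 := by rw [← (d.set.central _ hr2 g hg).eq, mul_inv_cancel_right, mul_inv_cancel]

theorem mu_mul {g k r : G} (hg : g ∈ (S : Subgroup G)) (hk : k ∈ (S : Subgroup G)) (hr : r ∈ R)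
    (hr2 : r * r ∈ A) : mu (g * k) r = mu g r * mu k r := by
  have h := d.set.central _ (d.mu_mem hk hr hr2) g hg
  calc mu (g * k) r = g * mu k r * r * g⁻¹ * r⁻¹ := by simp only [mu]; group
    _ = mu k r * mu g r := by rw [← h.eq]; simp only [mu]; group
    _ = _ := (d.set.comm (d.mu_mem hk hr hr2) (d.mu_mem hg hr hr2)).eq

theorem mu_mul_right {g r t : G} (hg : g ∈ (S : Subgroup G)) (hr : r ∈ R) (ht : t ∈ R)
    (ht2 : t * t ∈ A) : mu g (r * t) = mu g r * mu g t := by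
  have h := d.set.central _ (d.mu_mem hg ht ht2) r⁻¹ (inv_mem (d.le hr))
  calc mu g (r * t) = g * r * g⁻¹ * (mu g t * r⁻¹) := by simp only [mu]; group
    _ = _ := by rw [h.eq]; simp only [mu]; group

theorem mu_of_comm {g r : G} (h : Commute g r) : mu g r = 1 := by
  rw [mu, h.eq, mul_inv_cancel_right, mul_inv_cancel]

theorem mu_A {g a : G} (hg : g ∈ (S : Subgroup G)) (ha : a ∈ A) : mu g a = 1 :=
  d.mu_of_comm (d.set.central a ha g hg).symm

theorem mu_ne_one {x : G} (hx : x ∈ (S : Subgroup G)) (hx2 : x * x = 1) (hxA : x ∉ A) {r : G}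
    (hr : r ∈ R) (hrA : r ∉ A) : mu x r ≠ 1 := fun h => by
  rw [mu, mul_inv_eq_one, mul_inv_eq_iff_eq_mul] at h
  exact hrA (d.fixed hx hx2 hxA hr h.symm)

/-- The exponent is four. -/
theorem sq_mem {r : G} (hr : r ∈ R) : r * r ∈ A := by
  refine d.omega _ (mul_mem hr hr) ?_
  by_contra h
  obtain ⟨k, hk1, hk2⟩ := exists_pow_exact S.2 (d.le hr) (j := 2) (fun h4 => h (by
    rw [← h4]; simp [pow_succ, mul_assoc]))
  set y := r ^ k
  have hy : y ∈ R := pow_mem hr k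
  have hz2 : y * y * (y * y) ∈ A := d.omega _ (mul_mem (mul_mem hy hy) (mul_mem hy hy)) (by
    rw [← hk2]; simp [pow_succ, mul_assoc])
  have hz1 : y * y * (y * y) ≠ 1 := fun h => hk1 (by
    rw [← h]; simp [pow_succ, mul_assoc])
  obtain ⟨e, he, he1, hez⟩ := d.set.exists_third hz2
  refine d.set.no_char (fun g => mu g (y * y)) he he1 (fun g hg => d.mu_mem hg (mul_mem hy hy) hz2)
    (fun g hg k hk => d.mu_mul hg hk (mul_mem hy hy) hz2)
    (fun a ha => d.mu_of_comm (d.set.central a ha _ (d.le (mul_mem hy hy)))) fun x hx hx2 hxA => ?_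
  obtain ⟨a, ha, e'⟩ : ∃ a ∈ A, x * y * x⁻¹ = y⁻¹ * a :=
    ⟨_, d.mul_conj_mem hx hx2 hxA hy, by group⟩
  have h4 : mu x (y * y) = (y * y * (y * y))⁻¹ := by
    calc mu x (y * y) = x * y * x⁻¹ * (x * y * x⁻¹) * (y * y)⁻¹ := by simp only [mu]; group
      _ = y⁻¹ * a * (y⁻¹ * a) * (y * y)⁻¹ := by rw [e']
      _ = (y⁻¹ * y⁻¹) * (a * a) * (y * y)⁻¹ := by
          rw [mul_assoc y⁻¹ a, ← mul_assoc a y⁻¹, (d.set.central a ha _ (inv_mem (d.le hy))).eq]; group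
      _ = _ := by rw [d.set.sq a ha]; group
  show mu x (y * y) ≠ 1 ∧ mu x (y * y) ≠ e
  rw [h4, d.set.inv_eq hz2]
  exact ⟨hz1, hez.symm⟩

theorem mu_memR {g r : G} (hg : g ∈ (S : Subgroup G)) (hr : r ∈ R) : mu g r ∈ A :=
  d.mu_mem hg hr (d.sq_mem hr)

theorem sq_mul {r t : G} (hr : r ∈ R) (ht : t ∈ R) : r * t * (r * t) = r * r * (t * t) :=
  ((d.comm r hr t ht).symm.mul_mul_mul_comm r t)

theorem root_unique {r t : G} (hr : r ∈ R) (ht : t ∈ R) (h : r * r = t * t) : r⁻¹ * t ∈ A :=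
  d.omega _ (mul_mem (inv_mem hr) ht) (by rw [d.sq_mul (inv_mem hr) ht, ← h]; group)

theorem mu_congr {g r t : G} (hg : g ∈ (S : Subgroup G)) (hr : r ∈ R) (ht : t ∈ R) (h : r * r = t * t) :
    mu g t = mu g r := by
  have h1 := d.root_unique hr ht h
  rw [show t = r * (r⁻¹ * t) by group,
    d.mu_mul_right hg hr (d.ge h1) (by rw [d.set.sq _ h1]; exact one_mem A), d.mu_A hg h1, mul_one]

/-- Every value occurs on outer involutions. -/
theorem hit {r : G} (hr : r ∈ R) (hrA : r ∉ A) {w : G} (hw : w ∈ A) (hw1 : w ≠ 1) :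
    ∃ x ∈ (S : Subgroup G), x * x = 1 ∧ x ∉ A ∧ mu x r = w := by
  by_contra h
  push Not at h
  exact d.set.no_char (fun g => mu g r) hw hw1 (fun g hg => d.mu_memR hg hr)
    (fun g hg k hk => d.mu_mul hg hk hr (d.sq_mem hr))
    (fun a ha => d.mu_of_comm (d.set.central a ha _ (d.le hr)))
    fun x hx hx2 hxA => ⟨d.mu_ne_one hx hx2 hxA hr hrA, h x hx hx2 hxA⟩

theorem mu_inv {g r : G} (hg : g ∈ (S : Subgroup G)) (hr : r ∈ R) : mu g⁻¹ r = mu g r := by
  have h1 : mu g⁻¹ r * mu g r = 1 := by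
    rw [← d.mu_mul (inv_mem hg) hg hr (d.sq_mem hr), inv_mul_cancel]
    exact d.mu_of_comm (Commute.one_left r)
  rw [eq_inv_of_mul_eq_one_left h1, d.set.inv_eq (d.mu_memR hg hr)]

theorem mem_of_mu {g : G} (hg : g ∈ (S : Subgroup G)) (h : ∀ r ∈ R, mu g r = 1) : g ∈ R :=
  d.self g hg fun r hr => by
    have := h r hr
    rwa [mu, mul_inv_eq_one, mul_inv_eq_iff_eq_mul] at this

theorem quot_mem {g x : G} (hg : g ∈ (S : Subgroup G)) (hx : x ∈ (S : Subgroup G)) :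
    x⁻¹ * (g * x * g⁻¹) ∈ R := by
  refine d.mem_of_mu (mul_mem (inv_mem hx) (mul_mem (mul_mem hg hx) (inv_mem hg))) fun r hr => ?_
  have h2 := d.sq_mem hr
  rw [d.mu_mul (inv_mem hx) (mul_mem (mul_mem hg hx) (inv_mem hg)) hr h2,
    d.mu_mul (mul_mem hg hx) (inv_mem hg) hr h2, d.mu_mul hg hx hr h2, d.mu_inv hx hr, d.mu_inv hg hr,
    (d.set.comm (d.mu_memR hg hr) (d.mu_memR hx hr)).eq, mul_assoc, d.set.sq _ (d.mu_memR hg hr),
    mul_one, d.set.sq _ (d.mu_memR hx hr)]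

/-- An involution `x k` of the coset `x R` has `mu x k = k²`. -/
theorem mu_of_invol {x k : G} (hx2 : x * x = 1) (hk : k ∈ R) (h : x * k * (x * k) = 1) :
    mu x k = k * k := by
  have h2 : x * k * x⁻¹ = k⁻¹ := by
    rw [show x⁻¹ = x from inv_eq_of_mul_eq_one_right hx2]
    exact eq_inv_of_mul_eq_one_left (by rw [← h]; group)
  rw [mu, h2, ← mul_inv_rev]
  exact d.set.inv_eq (d.sq_mem hk)

/-- Each outer involution has a root fixed vector. -/
theorem fix {x : G} (hx : x ∈ (S : Subgroup G)) (hx2 : x * x = 1) (hxA : x ∉ A) :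
    ∃ r ∈ R, r ∉ A ∧ mu x r = r * r := by
  by_contra h
  push Not at h
  refine d.none ⟨x, hx, hx2, hxA, fun g hg => ?_⟩
  by_contra hgx
  set k := x⁻¹ * (g * x * g⁻¹) with hk
  refine h k (d.quot_mem hg hx) (fun hkA => hgx ?_) (d.mu_of_invol hx2 (d.quot_mem hg hx) ?_)
  · rw [mu, show g * x * g⁻¹ * x⁻¹ = x * k * x⁻¹ by rw [hk]; group, ← (d.set.central k hkA x hx).eq,
      mul_inv_cancel_right]
    exact hkA
  · rw [hk, mul_inv_cancel_left,
      show g * x * g⁻¹ * (g * x * g⁻¹) = g * (x * x) * g⁻¹ by group, hx2, mul_one, mul_inv_cancel]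

/-- Every element of `A` is a square in `R`. -/
theorem exists_root {r0 : G} (hr : r0 ∈ R) (hrA : r0 ∉ A) {v : G} (hv : v ∈ A) :
    ∃ r ∈ R, r * r = v := by
  have hz1 : r0 * r0 ≠ 1 := fun h => hrA (d.omega r0 hr h)
  obtain ⟨w, hw, hw1, hwz⟩ := d.set.exists_third (d.sq_mem hr)
  obtain ⟨x, hx, hx2, hxA, hxw⟩ := d.hit hr hrA hw hw1
  obtain ⟨r, hrR, hrA', hxr⟩ := d.fix hx hx2 hxA
  have hne : r0 * r0 ≠ r * r := fun he => hwz <| by
    rw [← hxw, ← d.mu_congr hx hr hrR he, hxr, he]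
  rcases d.set.four (d.sq_mem hr) (d.sq_mem hrR) hz1 (fun h => hrA' (d.omega r hrR h)) hne hv with
    e | e | e | e
  · exact ⟨1, one_mem R, by rw [e, one_mul]⟩
  · exact ⟨r0, hr, e.symm⟩
  · exact ⟨r, hrR, e.symm⟩
  · exact ⟨r0 * r, mul_mem hr hrR, (d.sq_mul hr hrR).trans e.symm⟩

end Rad

end CfsgLib.Goldschmidt.RankTwo
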