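import Cfsg.Agent.Lib.Invol.Goldschmidt.RankTwo.Alpha

/-!
Owner: helper18.  G1, case alpha: `R = Z₄ × Z₄`.  Two commuting outer involutions `x`, `y` give the
subgroup `T = R ⟨x, y⟩` of index two and an element `g` outside it inverting `R`.
-/

set_option autoImplicit false
set_option linter.unusedSectionVars false
set_option linter.style.haveILetI false

namespace CfsgLib.Goldschmidt.RankTwo

open Subgroup

variable {G : Type*} [Group G] [Finite G]

/-- Commuting involutions fixing the squares `ra²`, `rb²`. -/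
structure Four (S : Sylow 2 G) (A R : Subgroup G) (ra rb x y : G) : Prop where
  rad : Rad S A R
  hra : ra ∈ R
  hrb : rb ∈ R
  a1 : ra * ra ≠ 1
  b1 : rb * rb ≠ 1
  ab : ra * ra ≠ rb * rb
  xS : x ∈ (S : Subgroup G)
  x2 : x * x = 1
  xA : x ∉ A
  xa : mu x ra = ra * ra
  xb : mu x rb = ra * ra * (rb * rb)
  yS : y ∈ (S : Subgroup G)
  y2 : y * y = 1
  yA : y ∉ A
  ya : mu y ra = ra * ra * (rb * rb)
  yb : mu y rb = rb * rb
  xy : Commute x y

theorem mu_swap {S : Sylow 2 G} {A R : Subgroup G} (d : Rad S A R) {g h : G} (hm : mu g h ∈ A) :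
    mu h g = mu g h := by
  rw [← d.set.inv_eq hm, mu, mu]; group

theorem mul_mem_left_iff' {H : Subgroup G} {h k : G} (hh : h ∈ H) : h * k ∈ H ↔ k ∈ H :=
  H.mul_mem_cancel_left hh

namespace Rad

variable {S : Sylow 2 G} {A R : Subgroup G} (d : Rad S A R) {ra rb : G} (hra : ra ∈ R) (hrb : rb ∈ R)
  (ha : ra * ra ≠ 1) (hb : rb * rb ≠ 1) (hab : ra * ra ≠ rb * rb)

include d hra hrb

theorem mu_prod {g : G} (hg : g ∈ (S : Subgroup G)) : mu g (ra * rb) = mu g ra * mu g rb :=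
  d.mu_mul_right hg hra hrb (d.sq_mem hrb)

include ha hb hab

theorem cases_R {r : G} (hr : r ∈ R) : r * r = 1 ∧ r ∈ A ∨
    r * r = ra * ra ∧ (∀ g ∈ (S : Subgroup G), mu g r = mu g ra) ∨
    r * r = rb * rb ∧ (∀ g ∈ (S : Subgroup G), mu g r = mu g rb) ∨
    r * r = ra * ra * (rb * rb) ∧ (∀ g ∈ (S : Subgroup G), mu g r = mu g ra * mu g rb) := by
  rcases d.set.four (d.sq_mem hra) (d.sq_mem hrb) ha hb hab (d.sq_mem hr) with e | e | e | e
  · exact Or.inl ⟨e, d.omega r hr e⟩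
  · exact Or.inr (Or.inl ⟨e, fun g hg => d.mu_congr hg hra hr e.symm⟩)
  · exact Or.inr (Or.inr (Or.inl ⟨e, fun g hg => d.mu_congr hg hrb hr e.symm⟩))
  · refine Or.inr (Or.inr (Or.inr ⟨e, fun g hg => ?_⟩))
    rw [d.mu_congr hg (mul_mem hra hrb) hr ((d.sq_mul hra hrb).trans e.symm), d.mu_prod hra hrb hg]

theorem mem_R_of {g : G} (hg : g ∈ (S : Subgroup G)) (h1 : mu g ra = 1) (h2 : mu g rb = 1) : g ∈ R := by
  refine d.mem_of_mu hg fun r hr => ?_
  rcases d.cases_R hra hrb ha hb hab hr with ⟨-, h⟩ | ⟨-, h⟩ | ⟨-, h⟩ | ⟨-, h⟩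
  · exact d.mu_A hg h
  · rw [h g hg, h1]
  · rw [h g hg, h2]
  · rw [h g hg, h1, h2, one_mul]

theorem type_a : ∃ x ∈ (S : Subgroup G), x * x = 1 ∧ x ∉ A ∧ mu x ra = ra * ra ∧
    mu x rb = ra * ra * (rb * rb) := by
  have hcA := mul_mem (d.sq_mem hra) (d.sq_mem hrb)
  have hc1 : ra * ra * (rb * rb) ≠ 1 := fun h =>
    hab ((eq_inv_of_mul_eq_one_left h).trans (d.set.inv_eq (d.sq_mem hrb)))
  obtain ⟨x, hx, hx2, hxA, hxb⟩ := d.hit hrb (fun h => hb (d.set.sq rb h)) hcA hc1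
  obtain ⟨r, hr, hrA, hxr⟩ := d.fix hx hx2 hxA
  refine ⟨x, hx, hx2, hxA, ?_, hxb⟩
  rcases d.cases_R hra hrb ha hb hab hr with ⟨-, h⟩ | ⟨e, h⟩ | ⟨e, h⟩ | ⟨e, h⟩
  · exact absurd h hrA
  · rw [← h x hx, hxr, e]
  · rw [h x hx, hxb, e] at hxr
    exact absurd (mul_eq_right.1 hxr) ha
  · rw [h x hx, hxb, e] at hxr
    exact absurd (mul_eq_right.1 hxr) (d.mu_ne_one hx hx2 hxA hra fun hh => ha (d.set.sq ra hh))

end Rad

/-- Existence of the configuration. -/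
theorem Rad.exists_four {S : Sylow 2 G} {A R : Subgroup G} (d : Rad S A R) {r0 : G} (hr0 : r0 ∈ R)
    (hr0A : r0 ∉ A) : ∃ ra rb x y, Four S A R ra rb x y := by
  obtain ⟨a, ha, ha1⟩ := d.set.exists_ne_one
  obtain ⟨b, hb, hb1, hba⟩ := d.set.exists_third ha
  obtain ⟨ra, hra, rfl⟩ := d.exists_root hr0 hr0A ha
  obtain ⟨rb, hrb, rfl⟩ := d.exists_root hr0 hr0A hb
  have hab : ra * ra ≠ rb * rb := hba.symm
  have hA := d.sq_mem hra
  have hB := d.sq_mem hrb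
  obtain ⟨x, hx, hx2, hxA, hxa, hxb⟩ := d.type_a hra hrb ha1 hb1 hab
  obtain ⟨y, hy, hy2, hyA, hyb, hya⟩ := d.type_a hrb hra hb1 ha1 hab.symm
  rw [(d.set.comm hB hA).eq] at hya
  have hc1 : ra * ra * (rb * rb) ≠ 1 := fun h =>
    hab ((eq_inv_of_mul_eq_one_left h).trans (d.set.inv_eq hB))
  obtain ⟨z, hz, hz2, hzA, hzc, hza⟩ := d.type_a (mul_mem hra hrb) hra
    (by rwa [d.sq_mul hra hrb]) ha1 (by rw [d.sq_mul hra hrb]; exact fun h => hb1 (mul_eq_left.1 h))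
  rw [d.sq_mul hra hrb, (d.set.comm hA hB).eq, mul_assoc, d.set.sq _ hA, mul_one] at hza
  rw [d.sq_mul hra hrb, d.mu_prod hra hrb hz, hza] at hzc
  have hzb : mu z rb = ra * ra := by
    have h := congrArg (rb * rb * ·) hzc
    rwa [← mul_assoc, d.set.sq _ hB, one_mul, (d.set.comm hA hB).eq, ← mul_assoc, d.set.sq _ hB,
      one_mul] at h
  -- `(x y)²` lies in `A`
  set k := x * y * (x * y) with hk
  have hkR : k ∈ R := by
    have := d.quot_mem hy hx
    rwa [inv_eq_of_mul_eq_one_right hy2, inv_eq_of_mul_eq_one_right hx2,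
      show x * (y * x * y) = k by rw [hk]; group] at this
  have hinv : y * x * (y * x) = k⁻¹ := by
    rw [hk, mul_inv_rev, mul_inv_rev, inv_eq_of_mul_eq_one_right hx2, inv_eq_of_mul_eq_one_right hy2]
  have hxk : mu x k = k * k := d.mu_of_invol hx2 hkR (by
    rw [hk, show x * (x * y * (x * y)) = x * x * (y * x * y) by group, hx2, one_mul,
      show y * x * y * (y * x * y) = y * x * (y * y) * (x * y) by group, hy2, mul_one,
      mul_assoc, ← mul_assoc x x y, hx2, one_mul, hy2])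
  have hyk : mu y k⁻¹ = k⁻¹ * k⁻¹ := d.mu_of_invol hy2 (inv_mem hkR) (by
    rw [← hinv, show y * (y * x * (y * x)) = y * y * (x * y * x) by group, hy2, one_mul,
      show x * y * x * (x * y * x) = x * y * (x * x) * (y * x) by group, hx2, mul_one,
      mul_assoc, ← mul_assoc y y x, hy2, one_mul, hx2])
  have hkk : k⁻¹ * k⁻¹ = k * k := by rw [← mul_inv_rev, d.set.inv_eq (d.sq_mem hkR)]
  rw [d.mu_congr hy hkR (inv_mem hkR) hkk.symm, hkk] at hyk
  have hkA : k ∈ A := by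
    rcases d.cases_R hra hrb ha1 hb1 hab hkR with ⟨-, h⟩ | ⟨e, h⟩ | ⟨e, h⟩ | ⟨e, h⟩
    · exact h
    · rw [h y hy, hya, e] at hyk
      exact absurd (mul_eq_left.1 hyk) hb1
    · rw [h x hx, hxb, e] at hxk
      exact absurd (mul_eq_right.1 hxk) ha1
    · rw [h x hx, hxa, hxb, e, ← mul_assoc, d.set.sq _ hA, one_mul] at hxk
      exact absurd (mul_eq_right.1 hxk.symm) ha1
  -- `(x y)²` is `1` or `ra² rb²`
  set r := (x * y)⁻¹ * z with hr
  have hxy : x * y ∈ (S : Subgroup G) := mul_mem hx hy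
  have hμ : ∀ t ∈ R, mu (x * y) t = mu x t * mu y t := fun t ht => d.mu_mul hx hy ht (d.sq_mem ht)
  have hma : mu (x * y) ra = rb * rb := by rw [hμ _ hra, hxa, hya, ← mul_assoc, d.set.sq _ hA, one_mul]
  have hmb : mu (x * y) rb = ra * ra := by
    rw [hμ _ hrb, hxb, hyb, mul_assoc, d.set.sq _ hB, mul_one]
  have hrR : r ∈ R := d.mem_R_of hra hrb ha1 hb1 hab (mul_mem (inv_mem hxy) hz)
    (by rw [d.mu_mul (inv_mem hxy) hz hra hA, d.mu_inv hxy hra, hma, hza, d.set.sq _ hB])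
    (by rw [d.mu_mul (inv_mem hxy) hz hrb hB, d.mu_inv hxy hrb, hmb, hzb, d.set.sq _ hA])
  have heq : k * (mu (x * y) r * (r * r)) = 1 := by
    rw [← d.mu_inv hxy hrR]
    calc k * (mu (x * y)⁻¹ r * (r * r)) = x * y * r * (x * y * r) := by simp only [mu, hk]; group
      _ = z * z := by rw [hr, mul_inv_cancel_left]
      _ = 1 := hz2
  have hk' : k = 1 ∨ k = ra * ra * (rb * rb) := by
    have hc := mul_mem hA hB
    rcases d.cases_R hra hrb ha1 hb1 hab hrR with ⟨e, h⟩ | ⟨e, h⟩ | ⟨e, h⟩ | ⟨e, h⟩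
    · rw [d.mu_A hxy h, e, one_mul, mul_one] at heq
      exact Or.inl heq
    · rw [h _ hxy, hma, e, (d.set.comm hB hA).eq] at heq
      exact Or.inr ((eq_inv_of_mul_eq_one_left heq).trans (d.set.inv_eq hc))
    · rw [h _ hxy, hmb, e] at heq
      exact Or.inr ((eq_inv_of_mul_eq_one_left heq).trans (d.set.inv_eq hc))
    · rw [h _ hxy, hma, hmb, e, (d.set.comm hB hA).eq, d.set.sq _ hc, mul_one] at heq
      exact Or.inl heq
  rcases hk' with hk1 | hk1
  · refine ⟨ra, rb, x, y, d, hra, hrb, ha1, hb1, hab, hx, hx2, hxA, hxa, hxb, hy, hy2, hyA, hya, hyb, ?_⟩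
    show x * y = y * x
    rw [← inv_eq_of_mul_eq_one_right hk1, mul_inv_rev, inv_eq_of_mul_eq_one_right hx2,
      inv_eq_of_mul_eq_one_right hy2]
  · set x' := x * ra with hx'
    have hx'S : x' ∈ (S : Subgroup G) := mul_mem hx (d.le hra)
    have hxr : x * ra * x = ra * ra * ra := by
      have := hxa
      rw [mu, mul_inv_eq_iff_eq_mul, inv_eq_of_mul_eq_one_right hx2] at this
      exact this
    have hyr : y * ra * y = ra * ra * (rb * rb) * ra := by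
      have := hya
      rw [mu, mul_inv_eq_iff_eq_mul, inv_eq_of_mul_eq_one_right hy2] at this
      exact this
    have hx'2 : x' * x' = 1 := by
      rw [hx', show x * ra * (x * ra) = x * ra * x * ra by group, hxr,
        show ra * ra * ra * ra = ra * ra * (ra * ra) by group, d.set.sq _ hA]
    have hμ' : ∀ t ∈ R, mu x' t = mu x t := fun t ht => by
      rw [hx', d.mu_mul hx (d.le hra) ht (d.sq_mem ht), d.mu_of_comm (d.comm ra hra t ht), mul_one]
    have hx'A : x' ∉ A := fun h => by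
      have := hμ' ra hra
      rw [hxa, d.mu_of_comm (d.set.central _ h ra (d.le hra))] at this
      exact ha1 this.symm
    refine ⟨ra, rb, x', y, d, hra, hrb, ha1, hb1, hab, hx'S, hx'2, hx'A, (hμ' ra hra).trans hxa,
      (hμ' rb hrb).trans hxb, hy, hy2, hyA, hya, hyb, ?_⟩
    have hkc : Commute (ra * ra * (rb * rb)) (ra * y) :=
      d.set.central _ (mul_mem hA hB) _ (mul_mem (d.le hra) hy)
    have hyx : y * x = x * y * (ra * ra * (rb * rb)) := by
      have h1 : (x * y)⁻¹ = y * x := by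
        rw [mul_inv_rev, inv_eq_of_mul_eq_one_right hx2, inv_eq_of_mul_eq_one_right hy2]
      have h2 : x * y * (x * y) = ra * ra * (rb * rb) := hk1
      calc y * x = (x * y)⁻¹ := h1.symm
        _ = x * y * (x * y * (x * y))⁻¹ := by group
        _ = _ := by rw [h2, d.set.inv_eq (mul_mem hA hB)]
    have h4 : x' * y * (x' * y) = 1 := by
      calc x' * y * (x' * y) = x * ra * (y * x) * (ra * y) := by rw [hx']; group
        _ = x * ra * x * y * ((ra * ra * (rb * rb)) * (ra * y)) := by rw [hyx]; group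
        _ = x * ra * x * (y * ra * y) * (ra * ra * (rb * rb)) := by rw [hkc.eq]; group
        _ = ra * ra * ra * (ra * ra * (rb * rb) * ra) * (ra * ra * (rb * rb)) := by rw [hxr, hyr]
        _ = ra * ra * (ra * (ra * ra * (rb * rb)) * ra * (ra * ra * (rb * rb))) := by group
        _ = ra * ra * (ra * ra) * (ra * ra * (rb * rb) * (ra * ra * (rb * rb))) := by
          have hc := (d.set.central _ (mul_mem hA hB) ra (d.le hra)).eq
          rw [mul_assoc ra (ra * ra * (rb * rb)) ra, hc]; group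
        _ = 1 := by rw [d.set.sq _ hA, d.set.sq _ (mul_mem hA hB), one_mul]
    show x' * y = y * x'
    rw [← inv_eq_of_mul_eq_one_right h4, mul_inv_rev, inv_eq_of_mul_eq_one_right hx'2,
      inv_eq_of_mul_eq_one_right hy2]

namespace Four

variable {S : Sylow 2 G} {A R : Subgroup G} {ra rb x y : G} (F : Four S A R ra rb x y)

include F

theorem hA : ra * ra ∈ A := F.rad.sq_mem F.hra

theorem hB : rb * rb ∈ A := F.rad.sq_mem F.hrb

theorem swap : Four S A R rb ra y x :=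
  ⟨F.rad, F.hrb, F.hra, F.b1, F.a1, F.ab.symm, F.yS, F.y2, F.yA, F.yb,
    F.ya.trans (F.rad.set.comm F.hA F.hB).eq, F.xS, F.x2, F.xA,
    F.xb.trans (F.rad.set.comm F.hA F.hB).eq, F.xa, F.xy.symm⟩

theorem mul_ab : ra * ra * (ra * ra * (rb * rb)) = rb * rb := by
  rw [← mul_assoc, F.rad.set.sq _ F.hA, one_mul]

theorem cases_R {r : G} (hr : r ∈ R) : r * r = 1 ∧ r ∈ A ∨
    r * r = ra * ra ∧ (∀ g ∈ (S : Subgroup G), mu g r = mu g ra) ∨
    r * r = rb * rb ∧ (∀ g ∈ (S : Subgroup G), mu g r = mu g rb) ∨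
    r * r = ra * ra * (rb * rb) ∧ (∀ g ∈ (S : Subgroup G), mu g r = mu g ra * mu g rb) :=
  F.rad.cases_R F.hra F.hrb F.a1 F.b1 F.ab hr

theorem mu_eq {g h : G} (hg : g ∈ (S : Subgroup G)) (hh : h ∈ (S : Subgroup G))
    (h1 : mu g ra = mu h ra) (h2 : mu g rb = mu h rb) : g * h ∈ R := by
  refine F.rad.mem_R_of F.hra F.hrb F.a1 F.b1 F.ab (mul_mem hg hh) ?_ ?_
  · rw [F.rad.mu_mul hg hh F.hra F.hA, h1, F.rad.set.sq _ (F.rad.mu_memR hh F.hra)]
  · rw [F.rad.mu_mul hg hh F.hrb F.hB, h2, F.rad.set.sq _ (F.rad.mu_memR hh F.hrb)]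

theorem mu_xy {r : G} (hr : r ∈ R) : mu (x * y) r = mu x r * mu y r :=
  F.rad.mu_mul F.xS F.yS hr (F.rad.sq_mem hr)

theorem mu_xy_a : mu (x * y) ra = rb * rb := by rw [F.mu_xy F.hra, F.xa, F.ya, F.mul_ab]

theorem mu_xy_b : mu (x * y) rb = ra * ra := by
  rw [F.mu_xy F.hrb, F.xb, F.yb, mul_assoc, F.rad.set.sq _ F.hB, mul_one]

theorem mem_R_of_quot {g : G} (hg : g ∈ (S : Subgroup G)) {r : G} (hr : r ∈ R) : mu g r ∈ R :=
  F.rad.ge (F.rad.mu_memR hg hr)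

/-- `g x g⁻¹ x⁻¹` lies in `A ∪ ra A`. -/
theorem mu_x_cases {g : G} (hg : g ∈ (S : Subgroup G)) : mu g x ∈ A ∨ ra⁻¹ * mu g x ∈ A := by
  have d := F.rad
  set k := x⁻¹ * (g * x * g⁻¹) with hk
  have hkR := d.quot_mem hg F.xS
  have e : mu g x = mu x k * k := by rw [hk]; simp only [mu]; group
  have h1 : mu x k = k * k := d.mu_of_invol F.x2 hkR (by
    rw [hk, mul_inv_cancel_left, show g * x * g⁻¹ * (g * x * g⁻¹) = g * (x * x) * g⁻¹ by group, F.x2,
      mul_one, mul_inv_cancel])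
  rw [e, h1]
  rcases F.cases_R hkR with ⟨-, h⟩ | ⟨he, h⟩ | ⟨he, h⟩ | ⟨he, h⟩
  · exact Or.inl (mul_mem (mul_mem h h) h)
  · refine Or.inr ?_
    rw [he, mul_assoc, inv_mul_cancel_left]
    refine d.omega _ (mul_mem F.hra hkR) ?_
    rw [d.sq_mul F.hra hkR, he, d.set.sq _ F.hA]
  · rw [h x F.xS, F.xb, he] at h1
    exact absurd (mul_eq_right.1 h1) F.a1
  · rw [h x F.xS, F.xa, F.xb, F.mul_ab, he] at h1
    exact absurd (mul_eq_right.1 h1.symm) F.a1

theorem mu_x_mul {g h : G} (hg : g ∈ (S : Subgroup G)) (hh : h ∈ (S : Subgroup G)) :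
    mu g x ∈ A → mu h x ∈ A → mu (g * h) x ∈ A := fun h1 h2 => by
  rw [show mu (g * h) x = g * mu h x * g⁻¹ * mu g x by simp only [mu]; group,
    ← (F.rad.set.central _ h2 g hg).eq, mul_inv_cancel_right]
  exact mul_mem h2 h1

/-- `T = R⟨x, y⟩` as the stabiliser of `x A`. -/
def T : Subgroup G where
  carrier := {g | g ∈ (S : Subgroup G) ∧ mu g x ∈ A}
  one_mem' := ⟨one_mem _, by simp [mu]⟩
  mul_mem' := fun ⟨hg, hg'⟩ ⟨hh, hh'⟩ => ⟨mul_mem hg hh, F.mu_x_mul hg hh hg' hh'⟩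
  inv_mem' := by
    rintro g ⟨hg, hg'⟩
    refine ⟨inv_mem hg, ?_⟩
    rw [show mu g⁻¹ x = g⁻¹ * (mu g x)⁻¹ * g by simp only [mu]; group, mul_assoc,
      (F.rad.set.central _ (inv_mem hg') g hg).eq, ← mul_assoc, inv_mul_cancel, one_mul]
    exact inv_mem hg'

theorem T_le : F.T ≤ (S : Subgroup G) := fun _ h => h.1

theorem R_le_T : R ≤ F.T := fun r hr => ⟨F.rad.le hr, by
  have h := F.rad.mu_memR F.xS hr
  rw [mu_swap F.rad h]
  exact h⟩

theorem x_mem_T : x ∈ F.T := ⟨F.xS, by simp [mu]⟩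

theorem y_mem_T : y ∈ F.T := ⟨F.yS, by rw [mu, ← F.xy.eq, mul_inv_cancel_right, mul_inv_cancel]; exact one_mem A⟩

theorem mul_mem_T {g h : G} (hg : g ∈ (S : Subgroup G)) (hgT : g ∉ F.T) (hh : h ∈ (S : Subgroup G))
    (hhT : h ∉ F.T) : g * h ∈ F.T := by
  have d := F.rad
  obtain hg1 | hg1 := F.mu_x_cases hg
  · exact absurd ⟨hg, hg1⟩ hgT
  obtain hh1 | hh1 := F.mu_x_cases hh
  · exact absurd ⟨hh, hh1⟩ hhT
  refine ⟨mul_mem hg hh, ?_⟩
  set a1 := ra⁻¹ * mu g x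
  set a2 := ra⁻¹ * mu h x
  have e : mu (g * h) x = mu g ra * (ra * (g * a2 * g⁻¹) * ra * a1) := by
    simp only [a1, a2, mu]; group
  rw [e, ← (d.set.central _ hh1 g hg).eq, mul_inv_cancel_right, mul_assoc ra a2,
    (d.set.central _ hh1 ra (d.le F.hra)).eq, ← mul_assoc ra ra]
  exact mul_mem (d.mu_memR hg F.hra) (mul_mem (mul_mem F.hA hh1) hg1)

theorem exists_not_mem_T : ∃ g ∈ (S : Subgroup G), g ∉ F.T := by
  by_contra h
  push Not at h
  exact F.rad.none ⟨x, F.xS, F.x2, F.xA, fun g hg => (h g hg).2⟩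

theorem T_index : F.T.relIndex (S : Subgroup G) = 2 := by
  obtain ⟨g, hg, hgT⟩ := F.exists_not_mem_T
  refine F.rad.set.relIndex_two F.T_le hg hgT fun h hh => ?_
  by_cases hhT : h ∈ F.T
  exacts [Or.inl hhT, Or.inr (F.mul_mem_T hh hhT hg hgT)]

/-- No involution acts without a fixed square. -/
theorem no_invol {g : G} (hg : g ∈ (S : Subgroup G)) (hg2 : g * g = 1) (hgA : g ∉ A)
    (h : mu g ra = rb * rb ∧ mu g rb = ra * ra * (rb * rb) ∨
      mu g ra = ra * ra * (rb * rb) ∧ mu g rb = ra * ra) : False := by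
  obtain ⟨r, hr, hrA, hfix⟩ := F.rad.fix hg hg2 hgA
  rcases F.cases_R hr with ⟨-, e⟩ | ⟨e, h'⟩ | ⟨e, h'⟩ | ⟨e, h'⟩
  · exact hrA e
  all_goals rw [h' g hg, e] at hfix
  all_goals rcases h with ⟨p, q⟩ | ⟨p, q⟩
  · exact F.ab (hfix.symm.trans p)
  · exact F.b1 (mul_eq_left.1 (p.symm.trans hfix))
  · exact F.a1 (mul_eq_right.1 (q.symm.trans hfix))
  · exact F.ab (q.symm.trans hfix)
  · rw [p, q, (F.rad.set.comm F.hA F.hB).eq, ← mul_assoc, F.rad.set.sq _ F.hB, one_mul] at hfix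
    exact F.b1 (mul_eq_right.1 hfix.symm)
  · rw [p, q, mul_assoc, (F.rad.set.comm F.hB F.hA).eq, ← mul_assoc, F.rad.set.sq _ F.hA,
      one_mul] at hfix
    exact F.a1 (mul_eq_right.1 hfix.symm)

/-- `T = R ∪ R x ∪ R y ∪ R x y`. -/
theorem T_cases {g : G} (hg : g ∈ F.T) : g ∈ R ∨ g * x ∈ R ∨ g * y ∈ R ∨ g * (x * y) ∈ R := by
  have d := F.rad
  obtain ⟨hgS, hgA⟩ := hg
  have hA := F.hA
  have hB := F.hB
  obtain ⟨r, hr, hre⟩ : ∃ r ∈ R, mu r x = mu g x := by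
    have hsw : ∀ r ∈ R, mu r x = mu x r := fun r hr => mu_swap d (d.mu_memR F.xS hr)
    rcases d.set.four hA hB F.a1 F.b1 F.ab hgA with e | e | e | e
    · exact ⟨1, one_mem R, by rw [e]; simp [mu]⟩
    · exact ⟨ra, F.hra, by rw [hsw _ F.hra, F.xa, e]⟩
    · exact ⟨ra * rb, mul_mem F.hra F.hrb, by
        rw [hsw _ (mul_mem F.hra F.hrb), d.mu_prod F.hra F.hrb F.xS, F.xa, F.xb, F.mul_ab, e]⟩
    · exact ⟨rb, F.hrb, by rw [hsw _ F.hrb, F.xb, e]⟩
  set g' := g * r with hg'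
  have hg'S : g' ∈ (S : Subgroup G) := mul_mem hgS (d.le hr)
  have hcx : Commute g' x := by
    have h1 : mu g' x = 1 := by
      rw [show mu g' x = g * mu r x * g⁻¹ * mu g x by simp only [mu, hg']; group, hre,
        ← (d.set.central _ hgA g hgS).eq, mul_inv_cancel_right, d.set.sq _ hgA]
    rwa [mu, mul_inv_eq_one, mul_inv_eq_iff_eq_mul] at h1
  have hμ : ∀ t ∈ R, mu g' t = mu g t := fun t ht => by
    rw [hg', d.mu_mul hgS (d.le hr) ht (d.sq_mem ht), d.mu_of_comm (d.comm r hr t ht), mul_one]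
  by_cases hg'A : g' ∈ A
  · refine Or.inl ?_
    rw [show g = g' * r⁻¹ by rw [hg']; group]
    exact mul_mem (d.ge hg'A) (inv_mem hr)
  have hsqR : g' * g' ∈ R := d.mem_of_mu (mul_mem hg'S hg'S) fun t ht => by
    rw [d.mu_mul hg'S hg'S ht (d.sq_mem ht), d.set.sq _ (d.mu_memR hg'S ht)]
  have hsqA : g' * g' ∈ A := d.fixed F.xS F.x2 F.xA hsqR (hcx.mul_left hcx)
  have hg'2 : g' * g' = 1 := by
    have hbot := (d.set.bad x F.xS F.x2 F.xA).squares (zpowers g') (zpowers_le.2 hg'S)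
      (fun z hz => by obtain ⟨i, rfl⟩ := mem_zpowers_iff.1 hz; exact hcx.zpow_left i)
    exact mem_bot.1 (hbot ▸ ⟨Subgroup.subset_closure ⟨g', mem_zpowers g', rfl⟩, hsqA⟩)
  have hpA := d.mu_memR hg'S F.hra
  have hqA := d.mu_memR hg'S F.hrb
  have hp1 := d.mu_ne_one hg'S hg'2 hg'A F.hra fun h => F.a1 (d.set.sq _ h)
  have hq1 := d.mu_ne_one hg'S hg'2 hg'A F.hrb fun h => F.b1 (d.set.sq _ h)
  have hpq : mu g' ra ≠ mu g' rb := fun h => by
    refine d.mu_ne_one hg'S hg'2 hg'A (mul_mem F.hra F.hrb) (fun h' => ?_) ?_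
    · have := d.set.sq _ h'
      rw [d.sq_mul F.hra F.hrb] at this
      exact F.ab ((eq_inv_of_mul_eq_one_left this).trans (d.set.inv_eq hB))
    · rw [d.mu_prod F.hra F.hrb hg'S, h, d.set.sq _ hqA]
  rcases d.set.four hA hB F.a1 F.b1 F.ab hpA with p | p | p | p <;>
    rcases d.set.four hA hB F.a1 F.b1 F.ab hqA with q | q | q | q
  all_goals first
    | exact absurd p hp1
    | exact absurd q hq1
    | exact absurd (p.trans q.symm) hpq
    | skip
  · -- identity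
    exfalso
    have h1 : mu (g' * x) ra = 1 := by rw [d.mu_mul hg'S F.xS F.hra hA, p, F.xa, d.set.sq _ hA]
    by_cases hgxA : g' * x ∈ A
    · have h2 := d.mu_A hg'S hgxA
      have h3 : mu (g' * x) rb = 1 := d.mu_of_comm (d.set.central _ hgxA rb (d.le F.hrb))
      rw [d.mu_mul hg'S F.xS F.hrb hB, q, F.xb, (d.set.comm hA hB).eq, ← mul_assoc, d.set.sq _ hB,
        one_mul] at h3
      exact F.a1 h3
    · refine d.mu_ne_one (mul_mem hg'S F.xS) ?_ hgxA F.hra (fun h => F.a1 (d.set.sq _ h)) h1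
      rw [hcx.symm.mul_mul_mul_comm, hg'2, F.x2, one_mul]
  · -- x
    refine Or.inr (Or.inl (F.mu_eq hgS F.xS ?_ ?_))
    · rw [← hμ _ F.hra, p, F.xa]
    · rw [← hμ _ F.hrb, q, F.xb]
  · -- x y
    refine Or.inr (Or.inr (Or.inr (F.mu_eq hgS (mul_mem F.xS F.yS) ?_ ?_)))
    · rw [← hμ _ F.hra, p, F.mu_xy_a]
    · rw [← hμ _ F.hrb, q, F.mu_xy_b]
  · exact (F.no_invol hg'S hg'2 hg'A (Or.inl ⟨p, q⟩)).elim
  · exact (F.no_invol hg'S hg'2 hg'A (Or.inr ⟨p, q⟩)).elim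
  · -- y
    refine Or.inr (Or.inr (Or.inl (F.mu_eq hgS F.yS ?_ ?_)))
    · rw [← hμ _ F.hra, p, F.ya]
    · rw [← hμ _ F.hrb, q, F.yb]

theorem no_free {g : G} (hg : g ∈ (S : Subgroup G))
    (h : mu g ra = rb * rb ∧ mu g rb = ra * ra * (rb * rb) ∨
      mu g ra = ra * ra * (rb * rb) ∧ mu g rb = ra * ra) : False := by
  have d := F.rad
  have hA := F.hA
  have hB := F.hB
  have hcA := mul_mem hA hB
  have hc1 : ra * ra * (rb * rb) ≠ 1 := fun h => F.ab ((eq_inv_of_mul_eq_one_left h).trans (d.set.inv_eq hB))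
  have hg2 : g * g ∈ A := by
    have hR : g * g ∈ R := d.mem_of_mu (mul_mem hg hg) fun t ht => by
      rw [d.mu_mul hg hg ht (d.sq_mem ht), d.set.sq _ (d.mu_memR hg ht)]
    have h1 : mu g (g * g) = 1 := d.mu_of_comm ((Commute.refl g).mul_right (Commute.refl g))
    rcases F.cases_R hR with ⟨-, e⟩ | ⟨-, e⟩ | ⟨-, e⟩ | ⟨-, e⟩
    · exact e
    all_goals rw [e g hg] at h1
    all_goals rcases h with ⟨p, q⟩ | ⟨p, q⟩
    · exact absurd (p.symm.trans h1) F.b1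
    · exact absurd (p.symm.trans h1) hc1
    · exact absurd (q.symm.trans h1) hc1
    · exact absurd (q.symm.trans h1) F.a1
    · rw [p, q, (d.set.comm hA hB).eq, ← mul_assoc, d.set.sq _ hB, one_mul] at h1
      exact absurd h1 F.a1
    · rw [p, q, mul_assoc, (d.set.comm hB hA).eq, ← mul_assoc, d.set.sq _ hA, one_mul] at h1
      exact absurd h1 F.b1
  obtain ⟨r, hr, hre⟩ : ∃ r ∈ R, mu g r * (r * r) = g * g := by
    rcases d.set.four hA hB F.a1 F.b1 F.ab hg2 with e | e | e | e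
    · exact ⟨1, one_mem R, by rw [e, d.mu_of_comm (Commute.one_right g), mul_one, mul_one]⟩
    all_goals rcases h with ⟨p, q⟩ | ⟨p, q⟩
    · refine ⟨rb, F.hrb, ?_⟩
      rw [q, e, mul_assoc, d.set.sq _ hB, mul_one]
    · refine ⟨ra * rb, mul_mem F.hra F.hrb, ?_⟩
      rw [d.mu_prod F.hra F.hrb hg, p, q, d.sq_mul F.hra F.hrb, e, (d.set.comm hcA hA).eq, F.mul_ab,
        (d.set.comm hA hB).eq, ← mul_assoc, d.set.sq _ hB, one_mul]
    · refine ⟨ra * rb, mul_mem F.hra F.hrb, ?_⟩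
      rw [d.mu_prod F.hra F.hrb hg, p, q, d.sq_mul F.hra F.hrb, e, mul_assoc, d.set.sq _ hcA, mul_one]
    · refine ⟨ra, F.hra, ?_⟩
      rw [p, e, (d.set.comm hcA hA).eq, F.mul_ab]
    · refine ⟨ra, F.hra, ?_⟩
      rw [p, e, (d.set.comm hB hA).eq]
    · refine ⟨rb, F.hrb, ?_⟩
      rw [q, e]
  have hμ : ∀ t ∈ R, mu (g * r) t = mu g t := fun t ht => by
    rw [d.mu_mul hg (d.le hr) ht (d.sq_mem ht), d.mu_of_comm (d.comm r hr t ht), mul_one]
  have hgr : g * r * (g * r) = 1 := by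
    rw [← d.mu_inv hg hr] at hre
    calc g * r * (g * r) = g * g * (mu g⁻¹ r * (r * r)) := by simp only [mu]; group
      _ = 1 := by rw [hre, d.set.sq _ hg2]
  refine F.no_invol (mul_mem hg (d.le hr)) hgr (fun hA' => ?_) (by rwa [hμ _ F.hra, hμ _ F.hrb])
  have h1 := hμ ra F.hra
  rw [d.mu_of_comm (d.set.central _ hA' ra (d.le F.hra))] at h1
  rcases h with ⟨p, -⟩ | ⟨p, -⟩
  · exact F.b1 (p.symm.trans h1.symm)
  · exact hc1 (p.symm.trans h1.symm)

/-- An element outside `T` inverting `R`. -/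
theorem exists_inverting : ∃ g ∈ (S : Subgroup G), g ∉ F.T ∧ g * g ∈ A ∧ ∀ r ∈ R, mu g r = r * r := by
  have d := F.rad
  have hA := F.hA
  have hB := F.hB
  obtain ⟨g0, hg0, hg0T⟩ := F.exists_not_mem_T
  obtain ⟨g, hg, hgT, hp⟩ : ∃ g ∈ (S : Subgroup G), g ∉ F.T ∧ mu g ra = ra * ra := by
    have mk : ∀ t ∈ F.T, mu g0 ra * mu t ra = ra * ra →
        ∃ g ∈ (S : Subgroup G), g ∉ F.T ∧ mu g ra = ra * ra := fun t ht e =>
      ⟨g0 * t, mul_mem hg0 ht.1, fun h => hg0T (by simpa using mul_mem h (inv_mem ht)),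
        (d.mu_mul hg0 ht.1 F.hra hA).trans e⟩
    rcases d.set.four hA hB F.a1 F.b1 F.ab (d.mu_memR hg0 F.hra) with e | e | e | e
    · exact mk x F.x_mem_T (by rw [e, F.xa, one_mul])
    · exact ⟨g0, hg0, hg0T, e⟩
    · exact mk y F.y_mem_T (by rw [e, F.ya, (d.set.comm hA hB).eq, ← mul_assoc, d.set.sq _ hB, one_mul])
    · exact mk (x * y) (mul_mem F.x_mem_T F.y_mem_T) (by
        rw [e, F.mu_xy_a, mul_assoc, d.set.sq _ hB, mul_one])
  rcases d.set.four hA hB F.a1 F.b1 F.ab (d.mu_memR hg F.hrb) with e | e | e | e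
  · refine (F.no_free (mul_mem hg (mul_mem F.xS F.yS)) (Or.inr ⟨?_, ?_⟩)).elim
    · rw [d.mu_mul hg (mul_mem F.xS F.yS) F.hra hA, hp, F.mu_xy_a]
    · rw [d.mu_mul hg (mul_mem F.xS F.yS) F.hrb hB, e, F.mu_xy_b, one_mul]
  · refine (F.no_free (mul_mem hg F.yS) (Or.inl ⟨?_, ?_⟩)).elim
    · rw [d.mu_mul hg F.yS F.hra hA, hp, F.ya, F.mul_ab]
    · rw [d.mu_mul hg F.yS F.hrb hB, e, F.yb]
  · have hinv : ∀ r ∈ R, mu g r = r * r := fun r hr => by
      rcases F.cases_R hr with ⟨h1, h⟩ | ⟨h1, h⟩ | ⟨h1, h⟩ | ⟨h1, h⟩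
      · rw [d.mu_A hg h, h1]
      · rw [h g hg, hp, h1]
      · rw [h g hg, e, h1]
      · rw [h g hg, hp, e, h1]
    refine ⟨g, hg, hgT, ?_, hinv⟩
    have hR : g * g ∈ R := d.mem_of_mu (mul_mem hg hg) fun t ht => by
      rw [d.mu_mul hg hg ht (d.sq_mem ht), d.set.sq _ (d.mu_memR hg ht)]
    have h1 : mu g (g * g) = 1 := d.mu_of_comm ((Commute.refl g).mul_right (Commute.refl g))
    rw [hinv _ hR] at h1
    exact d.omega _ hR h1
  · refine absurd ?_ hgT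
    have h := F.mu_eq hg F.xS (hp.trans F.xa.symm) (e.trans F.xb.symm)
    simpa using mul_mem (F.R_le_T h) (inv_mem F.x_mem_T)

end Four

end CfsgLib.Goldschmidt.RankTwo
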