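import Cfsg.Agent.Lib.Invol.Goldschmidt.RankTwo.AlphaFour

/-!
Owner: helper18.  G1, case alpha concluded: some outer involution is central in `S` modulo `A`.
-/

set_option autoImplicit false
set_option linter.unusedSectionVars false
set_option linter.style.haveILetI false

namespace CfsgLib.Goldschmidt.RankTwo

open Subgroup

variable {G : Type*} [Group G] [Finite G]

theorem mu_conj (c v w : G) :
    mu (c * v * c⁻¹) (c * w * c⁻¹) = c * mu v w * c⁻¹ := by
  simp only [mu]; group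

namespace Four

variable {S : Sylow 2 G} {A R : Subgroup G} {ra rb x y : G} (F : Four S A R ra rb x y)

include F

theorem x_not_R : x ∉ R := fun h => F.xA (F.rad.omega x h F.x2)

theorem y_not_R : y ∉ R := fun h => F.yA (F.rad.omega y h F.y2)

theorem mu_rev {g h : G} (hm : mu g h ∈ A) : mu h g ∈ A := by
  rw [mu_swap F.rad hm]; exact hm

/-- The centraliser of `h` modulo `A`. -/
def cen (h : G) : Subgroup G where
  carrier := {k | k ∈ (S : Subgroup G) ∧ mu h k ∈ A}
  one_mem' := ⟨one_mem _, by simp [mu]⟩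
  mul_mem' := by
    rintro k l ⟨hk, hk'⟩ ⟨hl, hl'⟩
    refine ⟨mul_mem hk hl, ?_⟩
    rw [show mu h (k * l) = mu h k * (k * mu h l * k⁻¹) by simp only [mu]; group,
      ← (F.rad.set.central _ hl' k hk).eq, mul_inv_cancel_right]
    exact mul_mem hk' hl'
  inv_mem' := by
    rintro k ⟨hk, hk'⟩
    refine ⟨inv_mem hk, ?_⟩
    rw [show mu h k⁻¹ = k⁻¹ * (mu h k)⁻¹ * k by simp only [mu]; group, mul_assoc,
      (F.rad.set.central _ (inv_mem hk') k hk).eq, ← mul_assoc, inv_mul_cancel, one_mul]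
    exact inv_mem hk'

theorem R_le_cen {h : G} (hh : h ∈ (S : Subgroup G)) : R ≤ F.cen h :=
  fun _ hr => ⟨F.rad.le hr, F.rad.mu_memR hh hr⟩

theorem T_le_cen {h : G} (hh : h ∈ F.T) : F.T ≤ F.cen h := by
  have hy : mu h y ∈ A := by
    have key : ∀ e, e ∈ (S : Subgroup G) → Commute e y → h * e ∈ R → mu h y ∈ A := fun e heS hey he => by
      have h1 : mu (h * e) y ∈ A := F.mu_rev (F.rad.mu_memR F.yS he)
      rw [show mu (h * e) y = h * mu e y * h⁻¹ * mu h y by simp only [mu]; group,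
        F.rad.mu_of_comm hey, mul_one, mul_inv_cancel, one_mul] at h1
      exact h1
    rcases F.T_cases hh with e | e | e | e
    · exact key 1 (one_mem _) (Commute.one_left y) (by rwa [mul_one])
    · exact key x F.xS F.xy e
    · exact key y F.yS (Commute.refl y) e
    · exact key _ (mul_mem F.xS F.yS) (F.xy.mul_left (Commute.refl y)) e
  have hR := F.R_le_cen hh.1
  have hxc : x ∈ F.cen h := ⟨F.xS, hh.2⟩
  have hyc : y ∈ F.cen h := ⟨F.yS, hy⟩
  intro k hk
  rcases F.T_cases hk with e | e | e | e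
  · exact hR e
  · exact (mul_mem_cancel_right hxc).1 (hR e)
  · exact (mul_mem_cancel_right hyc).1 (hR e)
  · exact (mul_mem_cancel_right (mul_mem hxc hyc)).1 (hR e)

theorem mu_y_not {h : G} (hh : h ∈ (S : Subgroup G)) (hT : h ∉ F.T) : mu h y ∉ A := fun hy => by
  refine hT ?_
  rcases F.swap.T_cases (⟨hh, hy⟩ : h ∈ F.swap.T) with e | e | e | e
  · exact F.R_le_T e
  · exact (mul_mem_cancel_right F.y_mem_T).1 (F.R_le_T e)
  · exact (mul_mem_cancel_right F.x_mem_T).1 (F.R_le_T e)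
  · exact (mul_mem_cancel_right (mul_mem F.y_mem_T F.x_mem_T)).1 (F.R_le_T e)

theorem cen_T {h k : G} (hh : h ∈ (S : Subgroup G)) (hT : h ∉ F.T) (hk : k ∈ F.T) (hc : mu h k ∈ A) :
    k ∈ R := by
  have d := F.rad
  have hkc : k ∈ F.cen h := ⟨hk.1, hc⟩
  rcases F.T_cases hk with e | e | e | e
  · exact e
  · exact absurd ⟨hh, ((mul_mem_cancel_left hkc).1 (F.R_le_cen hh e)).2⟩ hT
  · exact absurd ((mul_mem_cancel_left hkc).1 (F.R_le_cen hh e)).2 (F.mu_y_not hh hT)
  · exfalso
    have hm : mu h (x * y) ∈ A := ((mul_mem_cancel_left hkc).1 (F.R_le_cen hh e)).2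
    obtain hx1 | hx1 := F.mu_x_cases hh
    · exact hT ⟨hh, hx1⟩
    obtain hy1 | hy1 := F.swap.mu_x_cases hh
    · exact F.mu_y_not hh hT hy1
    set a1 := ra⁻¹ * mu h x
    set a2 := rb⁻¹ * mu h y
    have e1 : mu h (x * y) = ra * (a1 * mu x rb) * rb * (x * a2 * x⁻¹) := by
      simp only [a1, a2, mu]; group
    rw [e1, ← (d.set.central _ hy1 x F.xS).eq, mul_inv_cancel_right, mul_mem_cancel_right hy1] at hm
    have hz : a1 * mu x rb ∈ A := mul_mem hx1 (d.mu_memR F.xS F.hrb)
    rw [(d.set.central _ hz ra (d.le F.hra)).eq.symm, mul_assoc, mul_mem_cancel_left hz] at hm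
    have h2 := d.set.sq _ hm
    rw [d.sq_mul F.hra F.hrb] at h2
    exact F.ab ((eq_inv_of_mul_eq_one_left h2).trans (d.set.inv_eq F.hB))

theorem cen_subset {h : G} (hh : h ∈ (S : Subgroup G)) (hT : h ∉ F.T) :
    (F.cen h : Set G) ⊆ (R : Set G) ∪ (fun r => r * h) '' R := by
  intro k hk
  have hhc : h ∈ F.cen h := ⟨hh, by simp [mu]⟩
  by_cases hkT : k ∈ F.T
  · exact Or.inl (F.cen_T hh hT hkT hk.2)
  · refine Or.inr ⟨k * h⁻¹, F.cen_T hh hT ?_ (mul_mem hk (inv_mem hhc)).2, inv_mul_cancel_right k h⟩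
    exact F.mul_mem_T hk.1 hkT (inv_mem hh) fun h' => hT (by simpa using inv_mem h')

theorem ncard_le (h : G) :
    ((R : Set G) ∪ (fun r => r * h) '' R).ncard ≤ 2 * Nat.card R := by
  refine (Set.ncard_union_le _ _).trans ?_
  have h1 := Set.ncard_image_le (f := fun r => r * h) (s := (R : Set G)) (Set.toFinite _)
  have h2 : (R : Set G).ncard = Nat.card R := (Nat.card_coe_set_eq _).symm
  omega

theorem T_card : 2 * Nat.card R < Nat.card F.T := by
  have h2 : (R : Set G).ncard = Nat.card R := (Nat.card_coe_set_eq _).symm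
  have hsub : (R : Set G) ∪ (fun r => r * x) '' R ∪ (fun r => r * y) '' R ⊆ (F.T : Set G) := by
    rintro t ((h | ⟨r, hr, rfl⟩) | ⟨r, hr, rfl⟩)
    exacts [F.R_le_T h, mul_mem (F.R_le_T hr) F.x_mem_T, mul_mem (F.R_le_T hr) F.y_mem_T]
  have hxy : x * y ∉ R := fun h => by
    have h1 := F.rad.omega _ h (by rw [F.xy.symm.mul_mul_mul_comm, F.x2, F.y2, one_mul])
    have h3 := F.mu_xy_a
    rw [F.rad.mu_of_comm (F.rad.set.central _ h1 ra (F.rad.le F.hra))] at h3
    exact F.b1 h3.symm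
  have d1 : Disjoint (R : Set G) ((fun r => r * x) '' R) := Set.disjoint_left.2 fun t ht => by
    rintro ⟨r, hr, rfl⟩
    exact F.x_not_R ((mul_mem_cancel_left hr).1 ht)
  have d2 : Disjoint ((R : Set G) ∪ (fun r => r * x) '' R) ((fun r => r * y) '' R) :=
    Set.disjoint_left.2 fun t ht => by
      rintro ⟨r, hr, rfl⟩
      rcases ht with h | ⟨r', hr', e⟩
      · exact F.y_not_R ((mul_mem_cancel_left hr).1 h)
      · refine hxy ?_
        have e' : r' * x = r * y := e
        rw [show x * y = r'⁻¹ * (r' * x) * y by group, e', mul_assoc, mul_assoc r y y, F.y2, mul_one]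
        exact mul_mem (inv_mem hr') hr
  have h3 := Set.ncard_le_ncard hsub (Set.toFinite _)
  rw [Set.ncard_union_eq d2, Set.ncard_union_eq d1,
    Set.ncard_image_of_injective _ (mul_left_injective x),
    Set.ncard_image_of_injective _ (mul_left_injective y), h2] at h3
  have h4 : (F.T : Set G).ncard = Nat.card F.T := (Nat.card_coe_set_eq _).symm
  have h5 : 0 < Nat.card R := Nat.card_pos
  omega

theorem mem_T_of_big {h : G} (hh : h ∈ (S : Subgroup G)) {Q : Subgroup G} (hQ : Q ≤ F.cen h)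
    (hc : 2 * Nat.card R < Nat.card Q) : h ∈ F.T := by
  by_contra hT
  have h1 := (Set.ncard_le_ncard ((SetLike.coe_subset_coe.2 hQ).trans (F.cen_subset hh hT))
    (Set.toFinite _)).trans (F.ncard_le h)
  rw [show (Q : Set G).ncard = Nat.card Q from (Nat.card_coe_set_eq _).symm] at h1
  omega

theorem T_invariant {m h : G} (hm : m ∈ normalizer ((S : Subgroup G) : Set G)) (hh : h ∈ F.T) :
    m * h * m⁻¹ ∈ F.T := by
  refine F.mem_T_of_big ((mem_normalizer_iff.1 hm h).1 hh.1) (Q := F.T.map (MulAut.conj m).toMonoidHom)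
    ?_ ?_
  · rintro _ ⟨k, hk, rfl⟩
    refine ⟨(mem_normalizer_iff.1 hm k).1 hk.1, ?_⟩
    show mu (m * h * m⁻¹) (m * k * m⁻¹) ∈ A
    rw [mu_conj]
    exact (mem_normalizer_iff.1 (F.rad.set.normalizer_le hm) _).1 (F.T_le_cen hh hk).2
  · rw [← Nat.card_congr (F.T.equivMapOfInjective _ (MulAut.conj m).injective).toEquiv]
    exact F.T_card

theorem sq_x {t : G} (h : t * x ∈ R) : t * t = 1 ∨ t * t = ra * ra := by
  have d := F.rad
  set r := t * x with hr
  have e : t * t = r * mu x r * r := by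
    simp only [mu, hr, inv_eq_of_mul_eq_one_right F.x2]
    calc t * t = t * (x * x) * (t * (x * x)) := by rw [F.x2]; group
      _ = _ := by group
  rw [e, ← (d.set.central _ (d.mu_memR F.xS h) r (d.le h)).eq, mul_assoc]
  rcases F.cases_R h with ⟨e1, h'⟩ | ⟨e1, h'⟩ | ⟨e1, h'⟩ | ⟨e1, h'⟩
  · exact Or.inl (by rw [d.mu_A F.xS h', e1, one_mul])
  · exact Or.inl (by rw [h' x F.xS, F.xa, e1, d.set.sq _ F.hA])
  · exact Or.inr (by rw [h' x F.xS, F.xb, e1, mul_assoc, d.set.sq _ F.hB, mul_one])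
  · exact Or.inr (by
      rw [h' x F.xS, F.xa, F.xb, F.mul_ab, e1, (d.set.comm F.hA F.hB).eq, ← mul_assoc, d.set.sq _ F.hB,
        one_mul])

theorem sq_y {t : G} (h : t * y ∈ R) : t * t = 1 ∨ t * t = rb * rb := F.swap.sq_x h

theorem sq_xy {t : G} (h : t * (x * y) ∈ R) : t * t = 1 ∨ t * t = ra * ra * (rb * rb) := by
  have d := F.rad
  have hxy : x * y ∈ (S : Subgroup G) := mul_mem F.xS F.yS
  have hxy2 : x * y * (x * y) = 1 := by rw [F.xy.symm.mul_mul_mul_comm, F.x2, F.y2, one_mul]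
  set r := t * (x * y) with hr
  have e : t * t = r * mu (x * y) r * r := by
    simp only [mu, hr, inv_eq_of_mul_eq_one_right hxy2]
    calc t * t = t * (x * y * (x * y)) * (t * (x * y * (x * y))) := by rw [hxy2]; group
      _ = _ := by group
  rw [e, ← (d.set.central _ (d.mu_memR hxy h) r (d.le h)).eq, mul_assoc]
  rcases F.cases_R h with ⟨e1, h'⟩ | ⟨e1, h'⟩ | ⟨e1, h'⟩ | ⟨e1, h'⟩
  · exact Or.inl (by rw [d.mu_A hxy h', e1, one_mul])
  · exact Or.inr (by rw [h' _ hxy, F.mu_xy_a, e1, (d.set.comm F.hB F.hA).eq])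
  · exact Or.inr (by rw [h' _ hxy, F.mu_xy_b, e1])
  · exact Or.inl (by
      rw [h' _ hxy, F.mu_xy_a, F.mu_xy_b, e1, (d.set.comm F.hB F.hA).eq,
        d.set.sq _ (mul_mem F.hA F.hB)])

theorem coset_mul {h l e f : G} (he : e ∈ (S : Subgroup G)) (hef : Commute e f) (h1 : h * e ∈ R)
    (h2 : l * f ∈ R) : h * l * (e * f) ∈ R := by
  have h3 := mul_mem h1 (F.rad.norm e⁻¹ (inv_mem he) _ h2)
  rw [inv_inv, show h * e * (e⁻¹ * (l * f) * e) = h * l * (f * e) by group, ← hef.eq] at h3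
  exact h3

/-- The fusion of `g` into `T` is impossible. -/
theorem no_fuse {g : G} (hg : g ∈ (S : Subgroup G)) (hgT : g ∉ F.T) (hg2 : g * g ∈ A)
    (hinv : ∀ r ∈ R, mu g r = r * r) {c : G} (hc : c ∈ centralizer (A : Set G))
    (hV : ∀ v ∈ F.cen g, c * v * c⁻¹ ∈ (S : Subgroup G)) (hT : c * g * c⁻¹ ∈ F.T) : False := by
  have d := F.rad
  have hfix : ∀ a ∈ A, c * a * c⁻¹ = a := fun a ha => by
    rw [← mem_centralizer_iff.1 hc a ha, mul_inv_cancel_right]
  have hA := F.hA
  have hB := F.hB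
  have hgc : g ∈ F.cen g := ⟨hg, by simp [mu]⟩
  have hgR : g ∉ R := fun h => hgT (F.R_le_T h)
  have hsq : ∀ v ∈ F.cen g, v ∈ R ∨ v * v = g * g := fun v hv => by
    rcases F.cen_subset hg hgT hv with h | ⟨r, hr, rfl⟩
    · exact Or.inl h
    · refine Or.inr ?_
      show r * g * (r * g) = g * g
      rw [show r * g * (r * g) = r * mu g r * r * (g * g) by simp only [mu]; group, hinv r hr,
        ← (d.set.central _ (d.sq_mem hr) r (d.le hr)).eq, mul_assoc (r * r) r r, d.set.sq _ (d.sq_mem hr),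
        one_mul]
  have hsqR : ∀ r ∈ R, g * r * (g * r) = g * g := fun r hr => by
    refine (hsq _ (mul_mem hgc (F.R_le_cen hg hr))).resolve_left fun h => hgR ((mul_mem_cancel_right hr).1 h)
  have habel : ∀ v ∈ F.cen g, ∀ w ∈ F.cen g, mu v w ∈ A := fun v hv w hw => by
    have hgvR : ∀ r ∈ R, ∀ z ∈ (S : Subgroup G), mu z r ∈ A ∧ mu r z ∈ A := fun r hr z hz =>
      ⟨d.mu_memR hz hr, F.mu_rev (d.mu_memR hz hr)⟩
    rcases F.cen_subset hg hgT hw with h | ⟨r, hr, rfl⟩
    · exact (hgvR w h v hv.1).1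
    show mu v (r * g) ∈ A
    rw [show mu v (r * g) = mu v r * (r * mu v g * r⁻¹) by simp only [mu]; group]
    have hvg : mu v g ∈ A := F.mu_rev hv.2
    rw [← (d.set.central _ hvg r (d.le hr)).eq, mul_inv_cancel_right]
    exact mul_mem (d.mu_memR hv.1 hr) hvg
  have hcu : ∀ v, c * v * c⁻¹ * (c * v * c⁻¹) = c * (v * v) * c⁻¹ := fun v => by group
  have hsqR' : ∀ r ∈ R, c * r * c⁻¹ * (c * r * c⁻¹) = r * r := fun r hr => by
    rw [hcu, hfix _ (d.sq_mem hr)]
  by_cases hout : ∃ v ∈ F.cen g, c * v * c⁻¹ ∉ F.T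
  · obtain ⟨v, hv, hvT⟩ := hout
    set k := c * v * c⁻¹ with hk
    set X := (F.cen g).map (MulAut.conj c).toMonoidHom with hX
    have hXk : X ≤ F.cen k := by
      rintro _ ⟨w, hw, rfl⟩
      refine ⟨hV w hw, ?_⟩
      show mu (c * v * c⁻¹) (c * w * c⁻¹) ∈ A
      rw [mu_conj, hfix _ (habel v hv w hw)]
      exact habel v hv w hw
    have hsub : (X : Set G) ⊆ (R : Set G) ∪ (fun r => r * k) '' R :=
      (SetLike.coe_subset_coe.2 hXk).trans (F.cen_subset (hV v hv) hvT)
    have hcard : ((R : Set G) ∪ (fun r => r * k) '' R).ncard ≤ (X : Set G).ncard := by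
      refine (F.ncard_le k).trans ?_
      have h2 : (R : Set G).ncard = Nat.card R := (Nat.card_coe_set_eq _).symm
      have hs : (R : Set G) ∪ (fun r => r * g) '' R ⊆ (F.cen g : Set G) := by
        rintro t (h | ⟨r, hr, rfl⟩)
        exacts [F.R_le_cen hg h, mul_mem (F.R_le_cen hg hr) hgc]
      have h3 := Set.ncard_le_ncard hs (Set.toFinite _)
      rw [Set.ncard_union_eq (Set.disjoint_left.2 fun t ht => by
          rintro ⟨r, hr, rfl⟩
          exact hgR ((mul_mem_cancel_left hr).1 ht)),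
        Set.ncard_image_of_injective _ (mul_left_injective g), h2] at h3
      rw [hX, coe_map, MulEquiv.coe_toMonoidHom, Set.ncard_image_of_injective _ (MulAut.conj c).injective]
      omega
    have heq := Set.eq_of_subset_of_ncard_le hsub hcard (Set.toFinite _)
    have hRX : ∀ r ∈ R, ∃ w ∈ F.cen g, c * w * c⁻¹ = r := fun r hr =>
      (show r ∈ (X : Set G) from heq ▸ Or.inl hr)
    have hback : ∀ r ∈ R, r * r ≠ g * g → c⁻¹ * r * c ∈ R := fun r hr hne => by
      obtain ⟨w, hw, rfl⟩ := hRX r hr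
      have hwR : w ∈ R := (hsq w hw).resolve_right fun he => hne (by rw [hcu, he, hfix _ hg2])
      rwa [show c⁻¹ * (c * w * c⁻¹) * c = w by group]
    have hback' : ∀ r ∈ R, c⁻¹ * r * c ∈ R := fun r hr => by
      by_cases he : r * r = g * g
      · by_cases h1 : r * r = 1
        · have hrA := d.omega r hr h1
          rw [← hfix r hrA, show c⁻¹ * (c * r * c⁻¹) * c = r by group]
          exact hr
        obtain ⟨e, he', he1, hea⟩ := d.set.exists_third hg2
        obtain ⟨r1, hr1, hr1e⟩ := d.exists_root F.hra (fun h => F.a1 (d.set.sq _ h)) he'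
        have hr2 : (r1⁻¹ * r) * (r1⁻¹ * r) = e * (g * g) := by
          rw [d.sq_mul (inv_mem hr1) hr, he, ← mul_inv_rev, hr1e, d.set.inv_eq he']
        have h := mul_mem (hback r1 hr1 (by rwa [hr1e]))
          (hback _ (mul_mem (inv_mem hr1) hr) (by rw [hr2]; exact fun h => he1 (mul_eq_right.1 h)))
        rwa [show c⁻¹ * r1 * c * (c⁻¹ * (r1⁻¹ * r) * c) = c⁻¹ * r * c by group] at h
      · exact hback r hr he
    have hhR : c * g * c⁻¹ ∈ R := F.cen_T (hV v hv) hvT hT (hXk ⟨g, hgc, rfl⟩).2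
    refine hgR ?_
    have := hback' _ hhR
    rwa [show c⁻¹ * (c * g * c⁻¹) * c = g by group] at this
  push Not at hout
  set la := c * ra * c⁻¹ with hla
  set lb := c * rb * c⁻¹ with hlb
  have hab' : la * lb = c * (ra * rb) * c⁻¹ := by rw [hla, hlb]; group
  have hc1 : ra * ra * (rb * rb) ≠ 1 := fun h =>
    F.ab ((eq_inv_of_mul_eq_one_left h).trans (d.set.inv_eq hB))
  have hca : ra * ra * (rb * rb) ≠ ra * ra := fun h => F.b1 (mul_eq_left.1 h)
  have hcb : ra * ra * (rb * rb) ≠ rb * rb := fun h => F.a1 (mul_eq_right.1 h)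
  have cla : la ∈ R ∨ la * x ∈ R := by
    rcases F.T_cases (hout ra (F.R_le_cen hg F.hra)) with h | h | h | h
    · exact Or.inl h
    · exact Or.inr h
    · rcases F.sq_y h with e | e <;> rw [hsqR' ra F.hra] at e
      exacts [absurd e F.a1, absurd e F.ab]
    · rcases F.sq_xy h with e | e <;> rw [hsqR' ra F.hra] at e
      exacts [absurd e F.a1, absurd e.symm hca]
  have clb : lb ∈ R ∨ lb * y ∈ R := by
    rcases F.T_cases (hout rb (F.R_le_cen hg F.hrb)) with h | h | h | h
    · exact Or.inl h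
    · rcases F.sq_x h with e | e <;> rw [hsqR' rb F.hrb] at e
      exacts [absurd e F.b1, absurd e.symm F.ab]
    · exact Or.inr h
    · rcases F.sq_xy h with e | e <;> rw [hsqR' rb F.hrb] at e
      exacts [absurd e F.b1, absurd e.symm hcb]
  have clc : la * lb ∈ R ∨ la * lb * (x * y) ∈ R := by
    have hprod := mul_mem F.hra F.hrb
    have hs := hsqR' _ hprod
    rw [d.sq_mul F.hra F.hrb] at hs
    rw [hab']
    rcases F.T_cases (hout _ (F.R_le_cen hg hprod)) with h | h | h | h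
    · exact Or.inl h
    · rcases F.sq_x h with e | e <;> rw [hs] at e
      exacts [absurd e hc1, absurd e hca]
    · rcases F.sq_y h with e | e <;> rw [hs] at e
      exacts [absurd e hc1, absurd e hcb]
    · exact Or.inr h
  -- every element of `c (g R) c⁻¹` has square `g²`
  have himg : ∀ r ∈ R, c * g * c⁻¹ * (c * r * c⁻¹) * (c * g * c⁻¹ * (c * r * c⁻¹)) = g * g := fun r hr => by
    rw [show c * g * c⁻¹ * (c * r * c⁻¹) = c * (g * r) * c⁻¹ by group, hcu, hsqR r hr, hfix _ hg2]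
  set h := c * g * c⁻¹ with hh
  have hxR : ∀ {t : G}, t ∈ R → t * x ∉ R := fun ht h' => F.x_not_R ((mul_mem_cancel_left ht).1 h')
  have hyR : ∀ {t : G}, t ∈ R → t * y ∉ R := fun ht h' => F.y_not_R ((mul_mem_cancel_left ht).1 h')
  have both : la ∈ R ∧ lb ∈ R ∨ la * x ∈ R ∧ lb * y ∈ R := by
    rcases cla with p | p <;> rcases clb with q | q
    · exact Or.inl ⟨p, q⟩
    · exfalso
      have h1 : la * lb * y ∈ R := by rw [mul_assoc]; exact mul_mem p q
      rcases clc with h' | h'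
      · exact hyR h' h1
      · rw [F.xy.eq, ← mul_assoc] at h'
        exact hxR h1 h'
    · exfalso
      have h1 : la * lb * x ∈ R := by
        simpa using F.coset_mul (f := 1) F.xS (Commute.one_right x) p (by rwa [mul_one])
      rcases clc with h' | h'
      · exact hxR h' h1
      · rw [← mul_assoc] at h'
        exact hyR h1 h'
    · exact Or.inr ⟨p, q⟩
  rcases both with ⟨p, q⟩ | ⟨p, q⟩
  · -- `c` normalises `R`
    have hcR : c ∈ normalizer (R : Set G) := mem_normalizer_of_map fun r hr => by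
      have key : ∀ t ∈ R, c * t * c⁻¹ ∈ R → r * r = t * t → c * r * c⁻¹ ∈ R := fun t ht htc he => by
        have h1 := d.root_unique ht hr he.symm
        rw [show c * r * c⁻¹ = c * t * c⁻¹ * (c * (t⁻¹ * r) * c⁻¹) by group, hfix _ h1]
        exact mul_mem htc (d.ge h1)
      rcases F.cases_R hr with ⟨e, -⟩ | ⟨e, -⟩ | ⟨e, -⟩ | ⟨e, -⟩
      · exact key 1 (one_mem R) (by simp) (by rw [e, one_mul])
      · exact key ra F.hra p e
      · exact key rb F.hrb q e
      · exact key (ra * rb) (mul_mem F.hra F.hrb) (hab' ▸ mul_mem p q)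
          (e.trans (d.sq_mul F.hra F.hrb).symm)
    have hhR : h ∉ R := fun h' => hgR ((mem_normalizer_iff.1 hcR g).2 h')
    -- `h ∈ e R` with squares `1` and another value
    have key : ∀ e, e ∈ (S : Subgroup G) → e * e = 1 → h * e ∈ R → ∀ r2 ∈ R, e * r2 * (e * r2) ≠ 1 →
        False := by
      intro e heS he he' r2 hr2 hne
      have hin : ∀ t ∈ R, e * t * (e * t) = g * g := fun t ht => by
        have h1 : h⁻¹ * e ∈ R := by
          have := d.norm e⁻¹ (inv_mem heS) _ (inv_mem he')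
          rw [inv_inv, inv_eq_of_mul_eq_one_right he] at this
          convert this using 1
          group
        have h2 := (mem_normalizer_iff''.1 hcR (h⁻¹ * e * t)).1 (mul_mem h1 ht)
        have := himg _ h2
        rwa [show h * (c * (c⁻¹ * (h⁻¹ * e * t) * c) * c⁻¹) = e * t by group] at this
      refine hne ((hin r2 hr2).trans ?_)
      rw [← hin 1 (one_mem R), mul_one, he]
    rcases F.T_cases hT with e | e | e | e
    · exact hhR e
    · refine key x F.xS F.x2 e rb F.hrb ?_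
      rw [show x * rb * (x * rb) = x * rb * x * rb by group]
      have := F.xb
      rw [mu, mul_inv_eq_iff_eq_mul, inv_eq_of_mul_eq_one_right F.x2] at this
      rw [this, mul_assoc, mul_assoc, d.set.sq _ hB, mul_one]
      exact F.a1
    · refine key y F.yS F.y2 e ra F.hra ?_
      rw [show y * ra * (y * ra) = y * ra * y * ra by group]
      have := F.ya
      rw [mu, mul_inv_eq_iff_eq_mul, inv_eq_of_mul_eq_one_right F.y2] at this
      rw [this, mul_assoc, (d.set.comm hA hB).eq, mul_assoc (rb * rb), d.set.sq _ hA, mul_one]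
      exact F.b1
    · have hxy2 : x * y * (x * y) = 1 := by rw [F.xy.symm.mul_mul_mul_comm, F.x2, F.y2, one_mul]
      refine key (x * y) (mul_mem F.xS F.yS) hxy2 e ra F.hra ?_
      rw [show x * y * ra * (x * y * ra) = x * y * ra * (x * y) * ra by group]
      have := F.mu_xy_a
      rw [mu, mul_inv_eq_iff_eq_mul, inv_eq_of_mul_eq_one_right hxy2] at this
      rw [this, mul_assoc, (d.set.comm hB hA).eq]
      exact hc1
  · -- the three classes are met
    have three : ∀ t1 t2 t3 : G, (∃ r ∈ R, t1 = h * (c * r * c⁻¹)) → (∃ r ∈ R, t2 = h * (c * r * c⁻¹)) →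
        (∃ r ∈ R, t3 = h * (c * r * c⁻¹)) → t1 ∈ R → t2 * x ∈ R → t3 * y ∈ R → False := by
      rintro t1 t2 t3 ⟨r1, hr1, rfl⟩ ⟨r2, hr2, rfl⟩ ⟨r3, hr3, rfl⟩ k1 k2 k3
      have h1 : g * g ≠ 1 := fun h1 => by
        have h' := d.omega _ k1 ((himg r1 hr1).trans h1)
        have e : c * (g * r1) * c⁻¹ = c * g * c⁻¹ * (c * r1 * c⁻¹) := by group
        have h2 : g * r1 ∈ A := by
          have := hfix _ h'
          rw [hh, ← e] at this
          rw [← mul_left_cancel (mul_right_cancel this)]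
          exact e ▸ h'
        exact hgR ((mul_mem_cancel_right hr1).1 (d.ge h2))
      refine F.ab ?_
      rw [← ((F.sq_x k2).resolve_left (by rw [himg r2 hr2]; exact h1)), himg r2 hr2,
        ← ((F.sq_y k3).resolve_left (by rw [himg r3 hr3]; exact h1)), himg r3 hr3]
    have e1 : ∃ r ∈ R, h = h * (c * r * c⁻¹) := ⟨1, one_mem R, by simp⟩
    have ea : ∃ r ∈ R, h * la = h * (c * r * c⁻¹) := ⟨ra, F.hra, rfl⟩
    have eb : ∃ r ∈ R, h * lb = h * (c * r * c⁻¹) := ⟨rb, F.hrb, rfl⟩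
    have ec : ∃ r ∈ R, h * (la * lb) = h * (c * r * c⁻¹) :=
      ⟨ra * rb, mul_mem F.hra F.hrb, by rw [hab']⟩
    have pq : la * lb * (x * y) ∈ R := F.coset_mul F.xS F.xy p q
    have hxy2 : x * y * (x * y) = 1 := by rw [F.xy.symm.mul_mul_mul_comm, F.x2, F.y2, one_mul]
    rcases F.T_cases hT with e | e | e | e
    · exact three _ _ _ e1 ea eb e (by rw [mul_assoc]; exact mul_mem e p)
        (by rw [mul_assoc]; exact mul_mem e q)
    · refine three _ _ _ ea e1 ec ?_ e ?_
      · simpa [F.x2] using F.coset_mul F.xS (Commute.refl x) e p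
      · simpa [← mul_assoc x x y, F.x2] using
          F.coset_mul F.xS ((Commute.refl x).mul_right F.xy) e pq
    · refine three _ _ _ eb ec e1 ?_ ?_ e
      · simpa [F.y2] using F.coset_mul F.yS (Commute.refl y) e q
      · have := F.coset_mul F.yS (F.xy.symm.mul_right (Commute.refl y)) e pq
        rwa [← mul_assoc y x y, ← F.xy.eq, mul_assoc x y y, F.y2, mul_one] at this
    · refine three _ _ _ ec eb ea ?_ ?_ ?_
      · simpa [hxy2] using F.coset_mul (mul_mem F.xS F.yS) (Commute.refl (x * y)) e pq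
      · have := F.coset_mul (mul_mem F.xS F.yS) (F.xy.mul_left (Commute.refl y)) e q
        rwa [mul_assoc x y y, F.y2, mul_one] at this
      · have := F.coset_mul (mul_mem F.xS F.yS) ((Commute.refl x).mul_left F.xy.symm) e p
        rwa [F.xy.eq, mul_assoc y x x, F.x2, mul_one] at this

theorem false : False := by
  have d := F.rad
  obtain ⟨g, hg, hgT, hg2, hinv⟩ := F.exists_inverting
  refine d.set.transfer F.T_le (fun a ha => F.R_le_T (d.ge ha)) F.T_index hg hg2 fun k hk hkT => ?_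
  obtain ⟨n, hn, e⟩ := d.set.fusion hg hk
  obtain ⟨c0, hc0, m, hm, em⟩ := d.set.frattini (inv_mem hn)
  -- fused by an element of the centraliser
  set h := c0⁻¹ * g * c0 with hh
  have hhT : h ∈ F.T := by
    have h1 : m * (k * g * k⁻¹) * m⁻¹ = h := by
      rw [← e, hh, show n = m⁻¹ * c0⁻¹ by rw [← mul_inv_rev, ← em, inv_inv]]; group
    exact h1 ▸ F.T_invariant hm hkT
  let K : Subgroup G :=
    { carrier := {z | z ∈ centralizer (A : Set G) ∧ mu z h ∈ A}
      one_mem' := ⟨one_mem _, by simp [mu]⟩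
      mul_mem' := by
        rintro z w ⟨hz, hz'⟩ ⟨hw, hw'⟩
        refine ⟨mul_mem hz hw, ?_⟩
        rw [show mu (z * w) h = z * mu w h * z⁻¹ * mu z h by simp only [mu]; group,
          ← mem_centralizer_iff.1 hz _ hw', mul_inv_cancel_right]
        exact mul_mem hw' hz'
      inv_mem' := by
        rintro z ⟨hz, hz'⟩
        refine ⟨inv_mem hz, ?_⟩
        rw [show mu z⁻¹ h = z⁻¹ * (mu z h)⁻¹ * z by simp only [mu]; group, mul_assoc,
          mem_centralizer_iff.1 hz _ (inv_mem hz'), ← mul_assoc, inv_mul_cancel, one_mul]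
        exact inv_mem hz' }
  have hTK : F.T ≤ K := fun t ht => ⟨d.set.le_centralizer ht.1, F.mu_rev (F.T_le_cen hhT ht).2⟩
  have hfix0 : ∀ a ∈ A, c0⁻¹ * a * c0 = a := fun a ha => by
    rw [mul_assoc, mem_centralizer_iff.1 hc0 a ha, inv_mul_cancel_left]
  have hVS : F.cen g ≤ (S : Subgroup G) := fun v hv => hv.1
  have hQK : (F.cen g).map (MulAut.conj c0⁻¹).toMonoidHom ≤ K := by
    rintro _ ⟨v, hv, rfl⟩
    refine ⟨mul_mem (mul_mem (inv_mem hc0) (d.set.le_centralizer hv.1)) (inv_mem (inv_mem hc0)), ?_⟩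
    show mu (c0⁻¹ * v * c0⁻¹⁻¹) h ∈ A
    rw [hh, show c0⁻¹ * g * c0 = c0⁻¹ * g * c0⁻¹⁻¹ by group, mu_conj, inv_inv, hfix0 _ (F.mu_rev hv.2)]
    exact F.mu_rev hv.2
  obtain ⟨P, hP, hTP, hPK, k', hk', hkP⟩ :=
    exists_conj_le (S.2.to_le F.T_le) hTK ((S.2.to_le hVS).map _) hQK
  obtain ⟨R', hR', hSR, -, d', hd', hdP⟩ :=
    exists_conj_le S.2 d.set.le_centralizer hP (fun z hz => (hPK hz).1)
  obtain rfl : R' = (S : Subgroup G) := S.3 hR' hSR
  have hy : d' * h * d'⁻¹ ∈ F.T := by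
    refine F.mem_T_of_big (hdP h (hTP hhT)) (Q := F.T.map (MulAut.conj d').toMonoidHom) ?_ ?_
    · rintro _ ⟨t, ht, rfl⟩
      refine ⟨hdP t (hTP ht), ?_⟩
      show mu (d' * h * d'⁻¹) (d' * t * d'⁻¹) ∈ A
      rw [mu_conj, ← mem_centralizer_iff.1 hd' _ (F.T_le_cen hhT ht).2, mul_inv_cancel_right]
      exact (F.T_le_cen hhT ht).2
    · rw [← Nat.card_congr (F.T.equivMapOfInjective _ (MulAut.conj d').injective).toEquiv]
      exact F.T_card
  refine F.no_fuse hg hgT hg2 hinv (c := d' * k' * c0⁻¹) (mul_mem (mul_mem hd' hk'.1) (inv_mem hc0))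
    (fun v hv => ?_) ?_
  · have := hdP _ (hkP _ ⟨v, hv, rfl⟩)
    simp only [MulEquiv.coe_toMonoidHom, MulAut.conj_apply] at this
    convert this using 1
    group
  · have h2 : d' * k' * c0⁻¹ * g * (d' * k' * c0⁻¹)⁻¹ = (d' * mu k' h * d'⁻¹) * (d' * h * d'⁻¹) := by
      simp only [mu, hh]; group
    rw [h2, ← mem_centralizer_iff.1 hd' _ hk'.2, mul_inv_cancel_right]
    exact mul_mem (F.R_le_T (d.ge hk'.2)) hy

end Four

/-- Case alpha is impossible. -/
theorem Setting.centralMod {S : Sylow 2 G} {A : Subgroup G} (s : Setting S A) : CentralMod S A := by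
  by_contra h
  obtain ⟨R, d, r0, hr0, hr0A⟩ := s.exists_rad h
  obtain ⟨ra, rb, x, y, F⟩ := d.exists_four hr0 hr0A
  exact F.false

end CfsgLib.Goldschmidt.RankTwo
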