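import Cfsg.Agent.Lib.Invol.Goldschmidt.RankTwo.AlphaMain

/-!
Owner: helper18.  G1, case beta, first part: `S/A` is elementary, the centraliser in `S` of an outer
involution is elementary, and some `u` has `[u, S] = A`.
-/

set_option autoImplicit false
set_option linter.unusedSectionVars false
set_option linter.style.haveILetI false

namespace CfsgLib.Goldschmidt.RankTwo

open Subgroup

variable {G : Type*} [Group G] [Finite G]

/-- `S` has class two over `A`. -/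
structure Cls (S : Sylow 2 G) (A : Subgroup G) : Prop where
  set : Setting S A
  sq : ∀ g ∈ (S : Subgroup G), g * g ∈ A
  comm : ∀ g ∈ (S : Subgroup G), ∀ h ∈ (S : Subgroup G), mu g h ∈ A

/-- `[u, S] = A`. -/
def Full (S : Sylow 2 G) (A : Subgroup G) (u : G) : Prop :=
  u ∈ (S : Subgroup G) ∧ u * u = 1 ∧ u ∉ A ∧ ∀ a ∈ A, ∃ g ∈ (S : Subgroup G), mu g u = a

theorem mu_eq_one_iff {g h : G} : mu g h = 1 ↔ Commute g h := by
  rw [mu, mul_inv_eq_one, mul_inv_eq_iff_eq_mul]; rfl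

namespace Setting

variable {S : Sylow 2 G} {A : Subgroup G} (s : Setting S A)

include s

theorem mu_swap' {g h : G} (hm : mu g h ∈ A) : mu h g = mu g h := by
  rw [← s.inv_eq hm, mu, mu]; group

theorem mu_mul' {g k w : G} (hg : g ∈ (S : Subgroup G)) (hk : mu k w ∈ A) (hgw : mu g w ∈ A) :
    mu (g * k) w = mu g w * mu k w := by
  rw [show mu (g * k) w = g * mu k w * g⁻¹ * mu g w by simp only [mu]; group,
    ← (s.central _ hk g hg).eq, mul_inv_cancel_right, (s.comm hk hgw).eq]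

theorem mu_mul_right' {g k w : G} (hk : k ∈ (S : Subgroup G)) (hw : mu g w ∈ A) :
    mu g (k * w) = mu g k * mu g w := by
  rw [show mu g (k * w) = mu g k * (k * mu g w * k⁻¹) by simp only [mu]; group,
    ← (s.central _ hw k hk).eq, mul_inv_cancel_right]

/-- Squares of a normal subgroup centralising an outer involution are trivial. -/
theorem sq_trivial {u : G} (hu : u ∈ (S : Subgroup G)) (hu2 : u * u = 1) (huA : u ∉ A) {P : Subgroup G}
    (hP : P ≤ (S : Subgroup G)) (hPn : ∀ g ∈ (S : Subgroup G), ∀ p ∈ P, g * p * g⁻¹ ∈ P)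
    (hc : ∀ p ∈ P, Commute p u) {p : G} (hp : p ∈ P) : p * p = 1 := by
  haveI : Fact (Nat.Prime 2) := ⟨Nat.prime_two⟩
  set Q := Subgroup.closure ((fun x => x * x) '' (P : Set G)) with hQ
  have hbot := (s.bad u hu hu2 huA).squares P hP hc
  have hQS : Q ≤ (S : Subgroup G) := (closure_le _).2 (by
    rintro _ ⟨q, hq, rfl⟩; exact mul_mem (hP hq) (hP hq))
  have hQn : ∀ g ∈ (S : Subgroup G), ∀ q ∈ Q, g * q * g⁻¹ ∈ Q := fun g hg q hq => by
    have hle : Q.map (MulAut.conj g).toMonoidHom ≤ Q := by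
      rw [hQ, MonoidHom.map_closure]
      refine (closure_le _).2 ?_
      rintro _ ⟨_, ⟨r, hr, rfl⟩, rfl⟩
      exact Subgroup.subset_closure ⟨g * r * g⁻¹, hPn g hg r hr, by simp⟩
    exact hle ⟨q, hq, rfl⟩
  by_contra hne
  set Q' := Q.subgroupOf (S : Subgroup G)
  haveI : Q'.Normal := ⟨fun q hq g => mem_subgroupOf.2 (hQn g g.2 q (mem_subgroupOf.1 hq))⟩
  have hQ1 : Q' ≠ ⊥ := fun h => hne <| by
    have : (⟨p * p, hQS (Subgroup.subset_closure ⟨p, hp, rfl⟩)⟩ : (S : Subgroup G)) ∈ Q' :=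
      mem_subgroupOf.2 (Subgroup.subset_closure ⟨p, hp, rfl⟩)
    rw [h, mem_bot] at this
    exact congrArg Subtype.val this
  have := CfsgLib.PGroups.inf_center_ne_bot S.2 hQ1
  rw [Ne, eq_bot_iff_forall] at this
  push Not at this
  obtain ⟨z, ⟨hzQ, hzc⟩, hz1⟩ := this
  have hz1' : (z : G) ^ 2 ^ 0 ≠ 1 := fun h => hz1 (Subtype.ext (by simpa using h))
  obtain ⟨k, hk1, hk2⟩ := exists_pow_exact S.2 z.2 hz1'
  have hA : (z : G) ^ k ∈ A := s.core _ (pow_mem z.2 k) (by simpa [pow_two] using hk2) fun t ht =>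
    Commute.pow_left (congrArg Subtype.val (mem_center_iff.1 hzc ⟨t, ht⟩)).symm k
  have hb : (z : G) ^ k ∈ (⊥ : Subgroup G) := hbot ▸ ⟨pow_mem (mem_subgroupOf.1 hzQ) k, hA⟩
  exact hk1 (by simpa using mem_bot.1 hb)

/-- Case beta: `S/A` is elementary abelian. -/
theorem cls : Cls S A := by
  obtain ⟨u, hu, hu2, huA, hmu⟩ := s.centralMod
  set E := (S : Subgroup G) ⊓ centralizer ({u} : Set G) with hE
  have hEmem : ∀ {e : G}, e ∈ E ↔ e ∈ (S : Subgroup G) ∧ Commute e u := fun {e} =>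
    ⟨fun h => ⟨h.1, mem_centralizer_singleton_iff.1 h.2⟩, fun h => ⟨h.1, mem_centralizer_singleton_iff.2 h.2.eq⟩⟩
  have hinv : ∀ g ∈ (S : Subgroup G), mu g⁻¹ u = mu g u := fun g hg => by
    have h1 : mu g⁻¹ u * mu g u = 1 := by
      rw [← s.mu_mul' (inv_mem hg) (hmu g hg) (hmu _ (inv_mem hg)), inv_mul_cancel, mu_eq_one_iff]
      exact Commute.one_left u
    rw [eq_inv_of_mul_eq_one_left h1, s.inv_eq (hmu g hg)]
  have hcomE : ∀ g ∈ (S : Subgroup G), ∀ h ∈ (S : Subgroup G), mu g h ∈ E := fun g hg h hh => by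
    have hm : mu g h ∈ (S : Subgroup G) :=
      mul_mem (mul_mem (mul_mem hg hh) (inv_mem hg)) (inv_mem hh)
    refine hEmem.2 ⟨hm, mu_eq_one_iff.1 ?_⟩
    show mu (g * h * g⁻¹ * h⁻¹) u = 1
    have hgh := mul_mem hg hh
    have hghg := mul_mem hgh (inv_mem hg)
    rw [s.mu_mul' hghg (hmu _ (inv_mem hh)) (hmu _ hghg), s.mu_mul' hgh (hmu _ (inv_mem hg)) (hmu _ hgh),
      s.mu_mul' hg (hmu _ hh) (hmu _ hg), hinv g hg, hinv h hh, (s.comm (hmu g hg) (hmu h hh)).eq,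
      mul_assoc (mu h u), s.sq _ (hmu g hg), mul_one, s.sq _ (hmu h hh)]
  have hEn : ∀ g ∈ (S : Subgroup G), ∀ p ∈ E, g * p * g⁻¹ ∈ E := fun g hg p hp => by
    rw [show g * p * g⁻¹ = mu g p * p by simp only [mu]; group]
    exact mul_mem (hcomE g hg p hp.1) hp
  have hE2 : ∀ e ∈ E, e * e = 1 := fun e he =>
    s.sq_trivial hu hu2 huA inf_le_left hEn (fun p hp => (hEmem.1 hp).2) he
  have hEc : ∀ e ∈ E, ∀ f ∈ E, Commute e f := fun e he f hf => by
    have h := hE2 _ (mul_mem he hf)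
    show e * f = f * e
    rw [← inv_eq_of_mul_eq_one_right h, mul_inv_rev, inv_eq_of_mul_eq_one_right (hE2 e he),
      inv_eq_of_mul_eq_one_right (hE2 f hf)]
  have hcen : ∀ e ∈ E, e ∉ A → ∀ g ∈ (S : Subgroup G), Commute g e → g ∈ E := fun e he heA g hg hge => by
    set P := (S : Subgroup G) ⊓ centralizer ({e} : Set G) with hP
    have hEP : E ≤ P := fun f hf => ⟨hf.1, mem_centralizer_singleton_iff.2 (hEc f hf e he).eq⟩
    have hP2 : ∀ p ∈ P, p * p = 1 := fun p hp => s.sq_trivial he.1 (hE2 e he) heA inf_le_left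
      (fun k hk q hq => by
        rw [show k * q * k⁻¹ = mu k q * q by simp only [mu]; group]
        exact mul_mem (hEP (hcomE k hk q hq.1)) hq)
      (fun q hq => mem_centralizer_singleton_iff.1 hq.2) hp
    have hgP : g ∈ P := ⟨hg, mem_centralizer_singleton_iff.2 hge.eq⟩
    have huP : u ∈ P := hEP (hEmem.2 ⟨hu, Commute.refl u⟩)
    refine hEmem.2 ⟨hg, ?_⟩
    have h := hP2 _ (mul_mem hgP huP)
    show g * u = u * g
    rw [← inv_eq_of_mul_eq_one_right h, mul_inv_rev, inv_eq_of_mul_eq_one_right (hP2 g hgP),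
      inv_eq_of_mul_eq_one_right hu2]
  have hsq : ∀ g ∈ (S : Subgroup G), g * g ∈ A := fun g hg => by
    by_cases hgE : g ∈ E
    · rw [hE2 g hgE]; exact one_mem A
    have h2 : g * g ∈ E := hEmem.2 ⟨mul_mem hg hg, mu_eq_one_iff.1 (by
      rw [s.mu_mul' hg (hmu g hg) (hmu g hg), s.sq _ (hmu g hg)])⟩
    by_contra h
    exact hgE (hcen _ h2 h g hg ((Commute.refl g).mul_right (Commute.refl g)))
  refine ⟨s, hsq, fun g hg h hh => ?_⟩
  have e : mu g h = g * h * (g * h) * ((g * g)⁻¹ * (h * h)⁻¹) := by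
    have c1 := s.central _ (inv_mem (hsq g hg)) h hh
    have c2 := s.central _ (inv_mem (hsq g hg)) (g * h * (g * h)) (mul_mem (mul_mem hg hh) (mul_mem hg hh))
    calc mu g h = g * h * g * ((g * g)⁻¹ * h) * (h * h)⁻¹ := by simp only [mu]; group
      _ = g * h * g * (h * (g * g)⁻¹) * (h * h)⁻¹ := by rw [c1.eq]
      _ = _ := by group
  rw [e]
  exact mul_mem (hsq _ (mul_mem hg hh)) (mul_mem (inv_mem (hsq g hg)) (inv_mem (hsq h hh)))

end Setting

namespace Cls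

variable {S : Sylow 2 G} {A : Subgroup G} (k : Cls S A)

/-- The centraliser in `S`. -/
def cen (_ : Cls S A) (g : G) : Subgroup G := (S : Subgroup G) ⊓ centralizer ({g} : Set G)

include k

theorem mem_cen {g e : G} : e ∈ k.cen g ↔ e ∈ (S : Subgroup G) ∧ Commute e g :=
  ⟨fun h => ⟨h.1, mem_centralizer_singleton_iff.1 h.2⟩,
    fun h => ⟨h.1, mem_centralizer_singleton_iff.2 h.2.eq⟩⟩

theorem A_le_cen {g : G} (hg : g ∈ (S : Subgroup G)) : A ≤ k.cen g := fun a ha =>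
  k.mem_cen.2 ⟨k.set.le ha, k.set.central a ha g hg⟩

theorem cen_normal {u : G} (hu : u ∈ (S : Subgroup G)) : ∀ g ∈ (S : Subgroup G), ∀ p ∈ k.cen u,
    g * p * g⁻¹ ∈ k.cen u := fun g hg p hp => by
  rw [show g * p * g⁻¹ = mu g p * p by simp only [mu]; group]
  exact mul_mem (k.A_le_cen hu (k.comm g hg p hp.1)) hp

theorem cen_sq {u : G} (hu : u ∈ (S : Subgroup G)) (hu2 : u * u = 1) (huA : u ∉ A) {p : G}
    (hp : p ∈ k.cen u) : p * p = 1 :=
  k.set.sq_trivial hu hu2 huA inf_le_left (k.cen_normal hu) (fun _ hq => (k.mem_cen.1 hq).2) hp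

theorem cen_comm {u : G} (hu : u ∈ (S : Subgroup G)) (hu2 : u * u = 1) (huA : u ∉ A) {p q : G}
    (hp : p ∈ k.cen u) (hq : q ∈ k.cen u) : Commute p q := by
  have h := k.cen_sq hu hu2 huA (mul_mem hp hq)
  show p * q = q * p
  rw [← inv_eq_of_mul_eq_one_right h, mul_inv_rev,
    inv_eq_of_mul_eq_one_right (k.cen_sq hu hu2 huA hp), inv_eq_of_mul_eq_one_right (k.cen_sq hu hu2 huA hq)]

theorem cen_eq {u e : G} (hu : u ∈ (S : Subgroup G)) (hu2 : u * u = 1) (huA : u ∉ A)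
    (he : e ∈ k.cen u) (heA : e ∉ A) : k.cen e = k.cen u := by
  have h1 : k.cen u ≤ k.cen e := fun f hf => k.mem_cen.2 ⟨hf.1, k.cen_comm hu hu2 huA hf he⟩
  refine le_antisymm (fun f hf => k.mem_cen.2 ⟨hf.1, ?_⟩) h1
  exact k.cen_comm he.1 (k.cen_sq hu hu2 huA he) heA hf (h1 (k.mem_cen.2 ⟨hu, Commute.refl u⟩))

theorem mu_mul {g h w : G} (hg : g ∈ (S : Subgroup G)) (hh : h ∈ (S : Subgroup G))
    (hw : w ∈ (S : Subgroup G)) : mu (g * h) w = mu g w * mu h w :=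
  k.set.mu_mul' hg (k.comm h hh w hw) (k.comm g hg w hw)

theorem mu_mul_right {g h w : G} (hg : g ∈ (S : Subgroup G)) (hh : h ∈ (S : Subgroup G))
    (hw : w ∈ (S : Subgroup G)) : mu g (h * w) = mu g h * mu g w :=
  k.set.mu_mul_right' hh (k.comm g hg w hw)

theorem mu_comm {g h : G} (hg : g ∈ (S : Subgroup G)) (hh : h ∈ (S : Subgroup G)) : mu h g = mu g h :=
  k.set.mu_swap' (k.comm g hg h hh)

theorem sq_mul {g h : G} (hg : g ∈ (S : Subgroup G)) (hh : h ∈ (S : Subgroup G)) :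
    g * h * (g * h) = g * g * (h * h) * mu g h := by
  have hm := k.comm g hg h hh
  calc g * h * (g * h) = g * (mu h g * (g * h * h)) := by simp only [mu]; group
    _ = g * mu g h * (g * h * h) := by rw [k.mu_comm hg hh, ← mul_assoc]
    _ = mu g h * g * (g * h * h) := by rw [(k.set.central _ hm g hg).eq]
    _ = mu g h * (g * g * (h * h)) := by group
    _ = _ := (k.set.central _ hm _ (mul_mem (mul_mem hg hg) (mul_mem hh hh))).eq

theorem sq_congr {g h : G} (hg : g ∈ (S : Subgroup G)) (h' : g⁻¹ * h ∈ A) : h * h = g * g := by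
  have e := k.sq_mul hg (k.set.le h')
  rw [mul_inv_cancel_left, k.set.sq _ h', mul_one,
    mu_eq_one_iff.2 (k.set.central _ h' g hg).symm, mul_one] at e
  exact e

theorem exists_not_cen {u : G} (hu : u ∈ (S : Subgroup G)) (hu2 : u * u = 1) (huA : u ∉ A) :
    ∃ g ∈ (S : Subgroup G), g ∉ k.cen u := by
  by_contra h
  push Not at h
  exact huA (k.set.core u hu hu2 fun g hg => ((k.mem_cen.1 (h g hg)).2).symm)

/-- Some outer involution has `[u, S] = A`. -/
theorem exists_full : ∃ u, Full S A u := by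
  obtain ⟨u, hu, hu2, huA⟩ := k.set.out
  by_cases hfull : ∀ a ∈ A, ∃ g ∈ (S : Subgroup G), mu g u = a
  · exact ⟨u, hu, hu2, huA, hfull⟩
  obtain ⟨g0, hg0, hg0E⟩ := k.exists_not_cen hu hu2 huA
  set i := mu g0 u with hi
  have hiA : i ∈ A := k.comm g0 hg0 u hu
  have hi1 : i ≠ 1 := fun h => hg0E (k.mem_cen.2 ⟨hg0, mu_eq_one_iff.1 h⟩)
  have hval : ∀ g ∈ (S : Subgroup G), mu g u = 1 ∨ mu g u = i := fun g hg => by
    by_contra h
    push Not at h
    refine hfull fun a ha => ?_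
    rcases k.set.four hiA (k.comm g hg u hu) hi1 h.1 h.2.symm ha with e | e | e | e
    · exact ⟨1, one_mem _, by rw [e, mu_eq_one_iff]; exact Commute.one_left u⟩
    · exact ⟨g0, hg0, e.symm⟩
    · exact ⟨g, hg, e.symm⟩
    · exact ⟨g0 * g, mul_mem hg0 hg, by rw [k.mu_mul hg0 hg hu, e]⟩
  have hsplit : ∀ g ∈ (S : Subgroup G), g ∈ k.cen u ∨ g * g0 ∈ k.cen u := fun g hg => by
    rcases hval g hg with e | e
    · exact Or.inl (k.mem_cen.2 ⟨hg, mu_eq_one_iff.1 e⟩)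
    · exact Or.inr (k.mem_cen.2 ⟨mul_mem hg hg0, mu_eq_one_iff.1 (by
        rw [k.mu_mul hg hg0 hu, e, k.set.sq i hiA])⟩)
  have huE : u ∈ k.cen u := k.mem_cen.2 ⟨hu, Commute.refl u⟩
  by_cases hψ : ∃ e ∈ k.cen u, mu g0 e ≠ 1 ∧ mu g0 e ≠ i
  · obtain ⟨e, he, he1, hei⟩ := hψ
    have hsurj : ∀ a ∈ A, ∃ f ∈ k.cen u, mu g0 f = a := fun a ha => by
      rcases k.set.four hiA (k.comm g0 hg0 e he.1) hi1 he1 hei.symm ha with h | h | h | h
      · exact ⟨1, one_mem _, by rw [h, mu_eq_one_iff]; exact Commute.one_right g0⟩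
      · exact ⟨u, huE, h.symm⟩
      · exact ⟨e, he, h.symm⟩
      · exact ⟨u * e, mul_mem huE he, by rw [k.mu_mul_right hg0 hu he.1, h]⟩
    obtain ⟨e0, he0, he0e⟩ := hsurj _ (k.sq g0 hg0)
    refine ⟨g0 * e0, mul_mem hg0 he0.1, ?_, fun h => hg0E ?_, fun a ha => ?_⟩
    · rw [k.sq_mul hg0 he0.1, k.cen_sq hu hu2 huA he0, mul_one, he0e, k.set.sq _ (k.sq g0 hg0)]
    · simpa using mul_mem (k.A_le_cen hu h) (inv_mem he0)
    · obtain ⟨f, hf, hfe⟩ := hsurj a ha
      refine ⟨f, hf.1, ?_⟩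
      rw [k.mu_mul_right hf.1 hg0 he0.1, k.mu_comm hg0 hf.1, hfe,
        mu_eq_one_iff.2 (k.cen_comm hu hu2 huA hf he0), mul_one]
  -- all commutators lie in a subgroup of order two
  exfalso
  push Not at hψ
  have hE : ∀ e ∈ k.cen u, mu g0 e = 1 ∨ mu g0 e = i := fun e he =>
    (em (mu g0 e = 1)).imp id (hψ e he)
  have hall : ∀ g ∈ (S : Subgroup G), ∀ h ∈ (S : Subgroup G), mu g h = 1 ∨ mu g h = i := by
    intro g hg h hh
    have key : ∀ e ∈ k.cen u, ∀ h ∈ (S : Subgroup G), mu e h = 1 ∨ mu e h = i := fun e he h hh => by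
      rcases hsplit h hh with hc | hc
      · exact Or.inl (mu_eq_one_iff.2 (k.cen_comm hu hu2 huA he hc))
      · have e1 := k.mu_mul_right he.1 hh hg0
        rw [mu_eq_one_iff.2 (k.cen_comm hu hu2 huA he hc), k.mu_comm hg0 he.1] at e1
        rw [← inv_eq_of_mul_eq_one_left e1.symm, k.set.inv_eq (k.comm g0 hg0 e he.1)]
        exact hE e he
    rcases hsplit g hg with hc | hc
    · exact key g hc h hh
    · have e1 := k.mu_mul hg hg0 hh
      have e2 : mu g h = mu (g * g0) h * mu g0 h := by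
        rw [e1, mul_assoc, k.set.sq _ (k.comm g0 hg0 h hh), mul_one]
      have e3 : mu g0 h = 1 ∨ mu g0 h = i := by
        rcases hsplit h hh with hd | hd
        · exact hE h hd
        · have e4 := k.mu_mul_right hg0 hh hg0
          rw [show mu g0 g0 = 1 from mu_eq_one_iff.2 (Commute.refl g0), mul_one] at e4
          exact e4 ▸ hE _ hd
      rcases key _ hc h hh with a | a <;> rcases e3 with b | b <;> rw [e2, a, b]
      · exact Or.inl (one_mul 1)
      · exact Or.inr (one_mul i)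
      · exact Or.inr (mul_one i)
      · exact Or.inl (k.set.sq i hiA)
  obtain ⟨j, hj, hj1, hji⟩ := k.set.exists_third hiA
  obtain ⟨m, hm, hmi⟩ := k.set.trans_sylow hiA hj hi1 hj1
  have hconj := mem_normalizer_iff.1 hm
  have h := hall _ ((hconj g0).1 hg0) _ ((hconj u).1 hu)
  rw [mu_conj, ← hi, hmi] at h
  exact h.elim hj1 hji

/-- Burnside: fusion modulo `A` is controlled by `N(S)`. -/
theorem fuse_mod {p n : G} (hp : p ∈ (S : Subgroup G)) (hn : n ∈ normalizer (A : Set G))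
    (hnp : n * p * n⁻¹ ∈ (S : Subgroup G)) :
    ∃ m ∈ normalizer ((S : Subgroup G) : Set G), (m * p * m⁻¹)⁻¹ * (n * p * n⁻¹) ∈ A := by
  obtain ⟨c, hc, m, hm, rfl⟩ := k.set.frattini hn
  set q := c * m * p * (c * m)⁻¹ with hq
  set p' := m * p * m⁻¹ with hp'
  have hp'S : p' ∈ (S : Subgroup G) := (mem_normalizer_iff.1 hm p).1 hp
  let K : Subgroup G :=
    { carrier := {z | z ∈ centralizer (A : Set G) ∧ mu z q ∈ A}
      one_mem' := ⟨one_mem _, by simp [mu]⟩
      mul_mem' := by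
        rintro z w ⟨hz, hz'⟩ ⟨hw, hw'⟩
        refine ⟨mul_mem hz hw, ?_⟩
        rw [show mu (z * w) q = z * mu w q * z⁻¹ * mu z q by simp only [mu]; group,
          ← mem_centralizer_iff.1 hz _ hw', mul_inv_cancel_right]
        exact mul_mem hw' hz'
      inv_mem' := by
        rintro z ⟨hz, hz'⟩
        refine ⟨inv_mem hz, ?_⟩
        rw [show mu z⁻¹ q = z⁻¹ * (mu z q)⁻¹ * z by simp only [mu]; group, mul_assoc,
          mem_centralizer_iff.1 hz _ (inv_mem hz'), ← mul_assoc, inv_mul_cancel, one_mul]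
        exact inv_mem hz' }
  have hSK : (S : Subgroup G) ≤ K := fun z hz => ⟨k.set.le_centralizer hz, k.comm z hz q hnp⟩
  have hqc : q = c * p' * c⁻¹ := by rw [hq, hp']; group
  have hQK : (S : Subgroup G).map (MulAut.conj c).toMonoidHom ≤ K := by
    rintro _ ⟨z, hz, rfl⟩
    refine ⟨mul_mem (mul_mem hc (k.set.le_centralizer hz)) (inv_mem hc), ?_⟩
    show mu (c * z * c⁻¹) q ∈ A
    rw [hqc, mu_conj, ← mem_centralizer_iff.1 hc _ (k.comm z hz p' hp'S), mul_inv_cancel_right]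
    exact k.comm z hz p' hp'S
  obtain ⟨R, hR, hSR, -, z, hz, hzQ⟩ := exists_conj_le S.2 hSK (S.2.map _) hQK
  obtain rfl : R = (S : Subgroup G) := S.3 hR hSR
  have hm' : z * c ∈ normalizer ((S : Subgroup G) : Set G) := mem_normalizer_of_map fun t ht => by
    have := hzQ _ ⟨t, ht, rfl⟩
    simp only [MulEquiv.coe_toMonoidHom, MulAut.conj_apply] at this
    convert this using 1
    group
  refine ⟨z * c * m, mul_mem hm' hm, ?_⟩
  rw [show (z * c * m * p * (z * c * m)⁻¹)⁻¹ * q = q⁻¹ * ((mu z q)⁻¹ * q) by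
    rw [hq]; simp only [mu]; group]
  rw [(k.set.central _ (inv_mem hz.2) q hnp).eq, inv_mul_cancel_left]
  exact inv_mem hz.2

end Cls

/-- The two elementary subgroups of order sixteen and their fusion. -/
structure Frame (S : Sylow 2 G) (A E F : Subgroup G) : Prop where
  set : Setting S A
  leE : E ≤ (S : Subgroup G)
  leF : F ≤ (S : Subgroup G)
  geE : A ≤ E
  geF : A ≤ F
  sqE : ∀ p ∈ E, p * p = 1
  sqF : ∀ p ∈ F, p * p = 1
  nonE : ∃ p ∈ E, p ∉ A
  nonF : ∃ p ∈ F, p ∉ A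
  invol : ∀ p ∈ (S : Subgroup G), p * p = 1 → p ∈ E ∨ p ∈ F
  apart : ∀ p ∈ E, p ∉ A → ∀ q ∈ F, q ∉ A → ¬ Commute p q
  transE : ∀ p ∈ E, p ∉ A → ∀ q ∈ E, q ∉ A → ∃ n ∈ normalizer (A : Set G), n * p * n⁻¹ = q
  transF : ∀ p ∈ F, p ∉ A → ∀ q ∈ F, q ∉ A → ∃ n ∈ normalizer (A : Set G), n * p * n⁻¹ = q
  closedE : ∀ n ∈ normalizer (A : Set G), ∀ p ∈ E, n * p * n⁻¹ ∈ (S : Subgroup G) → n * p * n⁻¹ ∈ E
  closedF : ∀ n ∈ normalizer (A : Set G), ∀ p ∈ F, n * p * n⁻¹ ∈ (S : Subgroup G) → n * p * n⁻¹ ∈ F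

end CfsgLib.Goldschmidt.RankTwo
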