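import Cfsg.Agent.Lib.Invol.Goldschmidt.RankTwo.Orbits
import Cfsg.Agent.Lib.Signalizer.OrderFormula

/-!
Owner: helper18.  G1: the three classes of involutions and the order formula for `(z, u)`:
`|z^G|` is the number of odd pairs in `z^G ∩ C(u)`.
-/

set_option autoImplicit false
set_option linter.unusedSectionVars false
set_option linter.style.haveILetI false

namespace CfsgLib.Goldschmidt.RankTwo

open Subgroup
open CfsgLib.Signalizer (involution_sq involution_inv involution_ne_one orderOf_eq_two_of mul_pair_zpow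
  central_involution unique_involution_in_zpowers orderOf_of_isConj exists_conj_of_odd ClassPairs)

variable {G : Type*} [Group G] [Finite G]

/-- A representative of the outer class of `E` with the properties of a bad element. -/
structure Base (A E : Subgroup G) (u : G) : Prop where
  mem : u ∈ E
  out : u ∉ A
  stab : ∀ a ∈ A, ∀ b ∈ A, a ≠ 1 → b ≠ 1 →
    ∃ r ∈ normalizer (A : Set G), Commute r u ∧ r * a * r⁻¹ = b
  many : ∀ z ∈ A, z ≠ 1 → ∀ d, IsConj z d → Commute d u →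
    Nat.card {d' : G // IsConj z d' ∧ Commute d' u} <
      3 * Nat.card {d' : G // IsConj z d' ∧ Commute d' u ∧ Odd (orderOf (d * d'))}

/-- The members of the class of `x` commuting with `v`. -/
abbrev Dset (x v : G) : Type _ := {d : G // IsConj x d ∧ Commute d v}

/-- The odd pairs of the class of `z` in `C(v)`. -/
abbrev OddPairs (z v : G) : Type _ :=
  Σ d : Dset z v, {d' : G // IsConj z d' ∧ Commute d' v ∧ Odd (orderOf ((d : G) * d'))}

theorem isConj_conj (g x : G) : IsConj x (g * x * g⁻¹) := isConj_iff.2 ⟨g, rfl⟩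

theorem card_Dset_conj (x : G) {v v' : G} (h : IsConj v v') :
    Nat.card (Dset x v') = Nat.card (Dset x v) := by
  obtain ⟨g, rfl⟩ := isConj_iff.1 h
  refine (Nat.card_congr (Equiv.subtypeEquiv (MulAut.conj g).toEquiv fun d => ?_)).symm
  show _ ↔ IsConj x (g * d * g⁻¹) ∧ Commute (g * d * g⁻¹) (g * v * g⁻¹)
  exact and_congr ⟨fun h => h.trans (isConj_conj g d), fun h => h.trans (isConj_conj g d).symm⟩
    (Commute.conj_iff g).symm

theorem card_OddPairs_conj (z : G) {v v' : G} (h : IsConj v v') :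
    Nat.card (OddPairs z v') = Nat.card (OddPairs z v) := by
  obtain ⟨g, rfl⟩ := isConj_iff.1 h
  have hc : ∀ d, IsConj z (g * d * g⁻¹) ↔ IsConj z d :=
    fun d => ⟨fun h => h.trans (isConj_conj g d).symm, fun h => h.trans (isConj_conj g d)⟩
  refine (Nat.card_congr (Equiv.sigmaCongr (Equiv.subtypeEquiv (MulAut.conj g).toEquiv fun d => ?_)
    fun d => Equiv.subtypeEquiv (MulAut.conj g).toEquiv fun d' => ?_)).symm
  · exact and_congr (hc d).symm (Commute.conj_iff g).symm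
  · show _ ↔ IsConj z (g * d' * g⁻¹) ∧ Commute (g * d' * g⁻¹) (g * v * g⁻¹) ∧
      Odd (orderOf (g * (d : G) * g⁻¹ * (g * d' * g⁻¹)))
    rw [hc, Commute.conj_iff, show g * (d : G) * g⁻¹ * (g * d' * g⁻¹) = g * ((d : G) * d') * g⁻¹ by group,
      CfsgLib.Signalizer.orderOf_conj]

/-- `|x^G| |y^G ∩ C(x)| = |y^G| |x^G ∩ C(y)|`. -/
theorem incidences (x y : G) :
    Nat.card {p : G // IsConj x p} * Nat.card (Dset y x) =
      Nat.card {p : G // IsConj y p} * Nat.card (Dset x y) := by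
  have e : (Σ p : {p : G // IsConj x p}, Dset y p.1) ≃ (Σ q : {q : G // IsConj y q}, Dset x q.1) :=
    { toFun := fun s => ⟨⟨s.2.1, s.2.2.1⟩, ⟨s.1.1, s.1.2, s.2.2.2.symm⟩⟩
      invFun := fun s => ⟨⟨s.2.1, s.2.2.1⟩, ⟨s.1.1, s.1.2, s.2.2.2.symm⟩⟩
      left_inv := fun _ => rfl
      right_inv := fun _ => rfl }
  have h := Nat.card_congr e
  haveI := Fintype.ofFinite {p : G // IsConj x p}
  haveI := Fintype.ofFinite {p : G // IsConj y p}
  rw [Nat.card_sigma, Nat.card_sigma, Finset.sum_congr rfl fun p _ => card_Dset_conj y p.2,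
    Finset.sum_congr rfl fun q _ => card_Dset_conj x q.2, Finset.sum_const, Finset.sum_const,
    Finset.card_univ, Finset.card_univ, smul_eq_mul, smul_eq_mul, ← Nat.card_eq_fintype_card,
    ← Nat.card_eq_fintype_card] at h
  exact h

theorem isPGroup_zpowers_two {x : G} {j : ℕ} (h : orderOf x ∣ 2 ^ j) : IsPGroup 2 (zpowers x) := by
  obtain ⟨i, -, hi⟩ := (Nat.dvd_prime_pow Nat.prime_two).1 h
  exact IsPGroup.of_card (n := i) (by rw [Nat.card_zpowers, hi])

/-- A 2-element and an involution normalising the group it generates lie in a conjugate of `S`. -/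
theorem exists_pair_sylow (S : Sylow 2 G) {p t : G} (hp : p * p = 1) {j : ℕ} (ht : orderOf t ∣ 2 ^ j)
    (hpt : p * t * p⁻¹ = t ∨ p * t * p⁻¹ = t⁻¹) :
    ∃ h : G, h * p * h⁻¹ ∈ (S : Subgroup G) ∧ h * t * h⁻¹ ∈ (S : Subgroup G) := by
  haveI : Fact (Nat.Prime 2) := ⟨Nat.prime_two⟩
  have hn : zpowers p ≤ normalizer (zpowers t : Set G) := zpowers_le.2 <| mem_normalizer_of_map fun y hy => by
    obtain ⟨i, rfl⟩ := mem_zpowers_iff.1 hy
    rw [← conj_zpow]
    rcases hpt with e | e <;> rw [e]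
    · exact zpow_mem (mem_zpowers t) i
    · exact zpow_mem (inv_mem (mem_zpowers t)) i
  have hP : IsPGroup 2 (zpowers p ⊔ zpowers t : Subgroup G) :=
    (isPGroup_zpowers_two (j := 1) (orderOf_dvd_of_pow_eq_one (by rw [pow_one, pow_two, hp]))).to_sup_of_normal_right'
      (isPGroup_zpowers_two ht) hn
  obtain ⟨h, hh⟩ := CfsgLib.Techniques.exists_conj_mem_sylow S hP
  exact ⟨h, hh p (mem_sup_left (mem_zpowers p)), hh t (mem_sup_right (mem_zpowers t))⟩

namespace Frame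

variable {S : Sylow 2 G} {A E F : Subgroup G} (f : Frame S A E F)

include f

theorem swap : Frame S A F E :=
  ⟨f.set, f.leF, f.leE, f.geF, f.geE, f.sqF, f.sqE, f.nonF, f.nonE, fun p hp hp2 => (f.invol p hp hp2).symm,
    fun p hp hpA q hq hqA hc => f.apart q hq hqA p hp hpA hc.symm, f.transF, f.transE, f.closedF, f.closedE⟩

theorem exists_base : ∃ u, Base A E u := by
  obtain ⟨u0, hu0, hu0A⟩ := f.nonE
  obtain ⟨v, hv, hstab, hmany⟩ := (f.set.bad u0 (f.leE hu0) (f.sqE u0 hu0) hu0A).exists_rep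
  refine ⟨v, ?_, ?_, hstab, hmany⟩
  · simpa using mul_mem hu0 (f.geE hv)
  · intro h
    refine hu0A ?_
    simpa using mul_mem h (inv_mem hv)

variable {u : G} (hu : Base A E u)

include hu

theorem two {p : G} (hp : IsConj u p) : orderOf p = 2 :=
  (orderOf_of_isConj hp).trans
    (orderOf_eq_two_of (fun h => hu.out (h ▸ one_mem A)) (f.sqE u hu.mem))

theorem mem_class {p : G} (hp : IsConj u p) {h : G} (hh : h * p * h⁻¹ ∈ (S : Subgroup G)) :
    h * p * h⁻¹ ∈ E ∧ h * p * h⁻¹ ∉ A := by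
  obtain ⟨g, rfl⟩ := isConj_iff.1 hp
  have e : h * (g * u * g⁻¹) * h⁻¹ = h * g * u * (h * g)⁻¹ := by group
  rw [e] at hh ⊢
  obtain ⟨n, hn, hne⟩ := f.set.fusion (f.leE hu.mem) hh
  rw [← hne] at hh ⊢
  exact ⟨f.closedE n hn u hu.mem hh, fun hA => hu.out ((mem_normalizer_iff.1 hn u).2 hA)⟩

theorem class_of_mem {p : G} (hp : p ∈ E) (hpA : p ∉ A) : IsConj u p := by
  obtain ⟨n, -, e⟩ := f.transE u hu.mem hu.out p hp hpA
  exact isConj_iff.2 ⟨n, e⟩

omit hu

variable {z : G} (hz : z ∈ A) (hz1 : z ≠ 1)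

include hz hz1

theorem two_z {p : G} (hp : IsConj z p) : orderOf p = 2 :=
  (orderOf_of_isConj hp).trans (orderOf_eq_two_of hz1 (f.set.sq z hz))

theorem mem_z {p : G} (hp : IsConj z p) {h : G} (hh : h * p * h⁻¹ ∈ (S : Subgroup G)) :
    h * p * h⁻¹ ∈ A ∧ h * p * h⁻¹ ≠ 1 := by
  refine ⟨?_, fun e => involution_ne_one (f.two_z hz hz1 hp) (conj_eq_one_iff.1 e)⟩
  obtain ⟨g, rfl⟩ := isConj_iff.1 hp
  rw [show h * (g * z * g⁻¹) * h⁻¹ = h * g * z * (h * g)⁻¹ by group] at hh ⊢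
  exact f.set.conj_mem hz hh

theorem class_z {a : G} (ha : a ∈ A) (ha1 : a ≠ 1) : IsConj z a := by
  obtain ⟨n, -, e⟩ := f.set.trans z hz a ha hz1 ha1
  exact isConj_iff.2 ⟨n, e⟩

include hu

theorem class_ne {p : G} (hp : IsConj z p) : ¬ IsConj u p := fun h => by
  obtain ⟨g, rfl⟩ := isConj_iff.1 hp
  have e : g⁻¹ * (g * z * g⁻¹) * g⁻¹⁻¹ = z := by group
  have h1 := f.mem_class hu h (h := g⁻¹) (by rw [e]; exact f.set.le hz)
  rw [e] at h1
  exact h1.2 hz

theorem mul_class {d v : G} (hd : IsConj z d) (hv : IsConj u v) (hc : Commute d v) : IsConj u (d * v) := by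
  obtain ⟨h, hdS, hvS⟩ := exists_pair_sylow S (involution_sq (f.two_z hz hz1 hd)) (j := 1) (t := v)
    (by rw [f.two hu hv, pow_one]) (Or.inl (by rw [hc.eq, mul_inv_cancel_right]))
  obtain ⟨hdA, -⟩ := f.mem_z hz hz1 hd hdS
  obtain ⟨hvE, hvA⟩ := f.mem_class hu hv hvS
  refine (f.class_of_mem hu (mul_mem (f.geE hdA) hvE) fun h' => hvA ((mul_mem_cancel_left hdA).1 h')).trans ?_
  rw [show h * d * h⁻¹ * (h * v * h⁻¹) = h * (d * v) * h⁻¹ by group]
  exact (isConj_conj h (d * v)).symm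

/-- In a pair `(p, q)` of the classes of `z` and `u` the product has order twice an odd number. -/
theorem decompose {p q : G} (hp : IsConj z p) (hq : IsConj u q) :
    ∃ v, IsConj u v ∧ v ∈ zpowers (p * q) ∧ IsConj z (q * v) ∧ Commute p v ∧ Commute q v ∧
      Odd (orderOf (p * (q * v))) := by
  have hp2 := f.two_z hz hz1 hp
  have hq2 := f.two hu hq
  set r := p * q with hr
  have heven : Even (orderOf r) := by
    rw [← Nat.not_odd_iff_even]
    intro ho
    obtain ⟨d, -, hd⟩ := exists_conj_of_odd hp2 hq2 ho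
    exact f.class_ne hu hz hz1 (hp.trans (isConj_iff.2 ⟨d, hd⟩)) hq
  obtain ⟨hv2, hvp, hvq⟩ := central_involution hp2 hq2 heven
  obtain ⟨m', hm'⟩ := heven
  rw [← hr, show orderOf r / 2 = m' by omega] at hv2 hvp hvq
  -- `m'` is odd
  have hinv : ∀ i : ℕ, p * r ^ i * p⁻¹ = (r ^ i)⁻¹ := fun i => by
    rw [← zpow_natCast, hr, mul_pair_zpow hp2 hq2, zpow_neg, mul_inv_cancel_right]
  rcases Nat.even_or_odd m' with ⟨j, hj⟩ | ⟨j, hj⟩
  · exfalso
    have ht : orderOf (r ^ j) ∣ 2 ^ 2 := orderOf_dvd_of_pow_eq_one (by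
      rw [← pow_mul, show j * 2 ^ 2 = orderOf r by rw [hm', hj]; ring, pow_orderOf_eq_one])
    obtain ⟨h, hpS, htS⟩ := exists_pair_sylow S (involution_sq hp2) ht (Or.inr (hinv j))
    obtain ⟨hpA, -⟩ := f.mem_z hz hz1 hp hpS
    have hc := (Commute.conj_iff h).1 (f.set.central _ hpA _ htS)
    have e := hinv j
    rw [hc.eq, mul_inv_cancel_right, ← mul_eq_one_iff_eq_inv, ← pow_add, ← hj] at e
    exact involution_ne_one hv2 e
  set v := r ^ m' with hv
  have hpv : IsConj u (p * v) := by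
    refine hq.trans (isConj_iff.2 ⟨(r ^ j)⁻¹, ?_⟩)
    have h1 : (r ^ j)⁻¹ * p = p * r ^ j := by
      rw [← hinv j, mul_assoc, mul_assoc, inv_mul_cancel, mul_one]
    calc (r ^ j)⁻¹ * q * (r ^ j)⁻¹⁻¹ = ((r ^ j)⁻¹ * p) * r * r ^ j := by
          rw [inv_inv, hr, mul_assoc (r ^ j)⁻¹ p (p * q), ← mul_assoc p p q, involution_sq hp2, one_mul]
      _ = p * r ^ j * r * r ^ j := by rw [h1]
      _ = p * v := by rw [hv, hj, pow_succ, two_mul, pow_add]; group
  have hvu : IsConj u v := by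
    have h1 := f.mul_class hu hz hz1 hp hpv ((Commute.refl p).mul_right hvp.symm)
    rwa [← mul_assoc, involution_sq hp2, one_mul] at h1
  refine ⟨v, hvu, pow_mem (mem_zpowers r) m', ?_, hvp.symm, hvq.symm, ?_⟩
  · refine hp.trans (isConj_iff.2 ⟨(r ^ (j + 1))⁻¹, ?_⟩)
    have hq' : q = r⁻¹ * p := by rw [hr, mul_inv_rev, inv_mul_cancel_right, involution_inv hq2]
    have hv' : v⁻¹ = v := involution_inv hv2
    calc (r ^ (j + 1))⁻¹ * p * (r ^ (j + 1))⁻¹⁻¹
        = (r ^ (j + 1))⁻¹ * (p * r ^ (j + 1) * p⁻¹) * p := by group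
      _ = (r ^ (j + 1))⁻¹ * (r ^ (j + 1))⁻¹ * p := by rw [hinv]
      _ = v⁻¹ * (r⁻¹ * p) := by rw [hv, hj, two_mul, ← mul_inv_rev, ← pow_add, show j + 1 + (j + 1) = 1 + (j + j + 1) by ring, pow_add, pow_one, mul_inv_rev, mul_assoc]
      _ = _ := by rw [← hq', hv', hvq.eq]
  · refine Odd.of_dvd_nat ⟨j, hj⟩ (orderOf_dvd_of_pow_eq_one ?_)
    rw [← mul_assoc, ← hr, hv, ← pow_succ', ← pow_mul, ← orderOf_dvd_iff_pow_eq_one, hm', hj]
    exact ⟨j + 1, by ring⟩

/-- The order formula for `(z, u)`. -/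
theorem card_oddPairs : Nat.card {p : G // IsConj z p} = Nat.card (OddPairs z u) := by
  let φ : (Σ v : {v : G // IsConj u v}, OddPairs z v.1) →
      {p : G // IsConj z p} × {p : G // IsConj u p} :=
    fun s => (⟨s.2.1.1, s.2.1.2.1⟩, ⟨s.2.2.1 * s.1.1, f.mul_class hu hz hz1 s.2.2.2.1 s.1.2 s.2.2.2.2.1⟩)
  have hmem : ∀ {v d d' : G}, IsConj u v → Commute d v → Commute d' v → Odd (orderOf (d * d')) →
      v ∈ zpowers (d * (d' * v)) := fun {v d d'} hv hd hd' ho => by
    refine mem_zpowers_iff.2 ⟨(orderOf (d * d') : ℤ), ?_⟩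
    obtain ⟨i, hi⟩ := ho
    rw [zpow_natCast, ← mul_assoc, (hd.mul_left hd').mul_pow, pow_orderOf_eq_one, one_mul, hi, pow_succ,
      pow_mul, pow_two, involution_sq (f.two hu hv), one_pow, one_mul]
  have hφ : Function.Bijective φ := by
    constructor
    · rintro ⟨⟨v, hv⟩, ⟨d, hd⟩, ⟨d', hd'⟩⟩ ⟨⟨w, hw⟩, ⟨e, he⟩, ⟨e', he'⟩⟩ h
      simp only [φ, Prod.mk.injEq, Subtype.mk.injEq] at h
      obtain ⟨rfl, h2⟩ := h
      have h1 : v = w := by
        refine unique_involution_in_zpowers (x := d * (d' * v)) (hmem hv hd.2 hd'.2.1 hd'.2.2) ?_ (f.two hu hv) (f.two hu hw)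
        rw [h2]
        exact hmem hw he.2 he'.2.1 he'.2.2
      subst h1
      obtain rfl := mul_right_cancel h2
      rfl
    · rintro ⟨⟨p, hp⟩, ⟨q, hq⟩⟩
      obtain ⟨v, hv, -, hqv, hpv, hqv', hodd⟩ := f.decompose hu hz hz1 hp hq
      refine ⟨⟨⟨v, hv⟩, ⟨p, hp, hpv⟩, ⟨q * v, hqv, hqv'.mul_left (Commute.refl v), hodd⟩⟩, ?_⟩
      simp only [φ, Prod.mk.injEq, Subtype.mk.injEq, true_and]
      rw [mul_assoc, involution_sq (f.two hu hv), mul_one]
  haveI := Fintype.ofFinite {v : G // IsConj u v}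
  have h := Nat.card_congr (Equiv.ofBijective φ hφ)
  rw [Nat.card_sigma, Finset.sum_congr rfl fun v _ => card_OddPairs_conj z v.2, Finset.sum_const,
    Finset.card_univ, smul_eq_mul, ← Nat.card_eq_fintype_card, Nat.card_prod, mul_comm _ (Nat.card {p : G // IsConj u p})] at h
  haveI : Nonempty {p : G // IsConj u p} := ⟨⟨u, IsConj.refl u⟩⟩
  exact (Nat.eq_of_mul_eq_mul_left Nat.card_pos h).symm

/-- More than a third of the pairs are odd. -/
theorem third_lt : Nat.card (Dset z u) * Nat.card (Dset z u) < 3 * Nat.card {p : G // IsConj z p} := by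
  rw [f.card_oddPairs hu hz hz1]
  haveI := Fintype.ofFinite (Dset z u)
  have hne : Nonempty (Dset z u) :=
    ⟨⟨z, IsConj.refl z, f.set.central z hz u (f.leE hu.mem)⟩⟩
  rw [Nat.card_sigma, Finset.mul_sum]
  calc Nat.card (Dset z u) * Nat.card (Dset z u) = ∑ _d : Dset z u, Nat.card (Dset z u) := by
        rw [Finset.sum_const, Finset.card_univ, smul_eq_mul, ← Nat.card_eq_fintype_card]
    _ < _ := Finset.sum_lt_sum_of_nonempty Finset.univ_nonempty fun d _ => hu.many z hz hz1 d.1 d.2.1 d.2.2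

end Frame

end CfsgLib.Goldschmidt.RankTwo
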