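import Cfsg.Agent.Lib.Invol.Goldschmidt.RankTwo.Classes
import Cfsg.Agent.Lib.ZStar.Main

/-!
Owner: helper18.  G1: in `C(A)` each involution of `A` is the central involution of a third of the pairs
`(u^g, w^h)`, hence the same holds in `C(z)` by Glauberman's theorem.  This contradicts the first count.
-/

set_option autoImplicit false
set_option linter.unusedSectionVars false
set_option linter.style.haveILetI false

namespace CfsgLib.Goldschmidt.RankTwo

open Subgroup
open CfsgLib.Signalizer (involution_sq involution_inv involution_ne_one orderOf_eq_two_of mul_pair_zpow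
  central_involution unique_involution_in_zpowers orderOf_of_isConj exists_conj_of_odd ClassPairs
  card_classPairs_conj)

variable {G : Type*} [Group G] [Finite G]

/-- A predicate pulled back along a map with constant fibres. -/
theorem card_fibres {α β : Type*} [Finite α] [Finite β] (f : α → β) {c : ℕ}
    (hc : ∀ b, Nat.card {a // f a = b} = c) (P : β → Prop) :
    Nat.card {a // P (f a)} = c * Nat.card {b // P b} := by
  haveI := Fintype.ofFinite {b // P b}
  have e : {a // P (f a)} ≃ Σ b : {b // P b}, {a // f a = b.1} :=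
    { toFun := fun a => ⟨⟨f a.1, a.2⟩, a.1, rfl⟩
      invFun := fun s => ⟨s.2.1, s.2.2.symm ▸ s.1.2⟩
      left_inv := fun a => rfl
      right_inv := by
        rintro ⟨⟨b, hb⟩, ⟨a, ha⟩⟩
        change f a = b at ha
        subst ha
        rfl }
  rw [Nat.card_congr e, Nat.card_sigma, Finset.sum_congr rfl fun b _ => hc b.1, Finset.sum_const,
    Finset.card_univ, smul_eq_mul, ← Nat.card_eq_fintype_card, mul_comm]

theorem card_all {α β : Type*} [Finite α] [Finite β] (f : α → β) {c : ℕ}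
    (hc : ∀ b, Nat.card {a // f a = b} = c) : Nat.card α = c * Nat.card β := by
  have h := card_fibres f hc fun _ => True
  rwa [Nat.card_congr (Equiv.subtypeUnivEquiv fun _ => trivial),
    Nat.card_congr (Equiv.subtypeUnivEquiv fun _ => trivial)] at h

/-- The fibres of a surjective homomorphism. -/
theorem card_fibre_hom {K Q : Type*} [Group K] [Group Q] (φ : K →* Q) (hφ : Function.Surjective φ) (q : Q) :
    Nat.card {k // φ k = q} = Nat.card φ.ker := by
  obtain ⟨k0, rfl⟩ := hφ q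
  refine Nat.card_congr
    { toFun := fun k => ⟨k0⁻¹ * k.1, by simp [MonoidHom.mem_ker, k.2]⟩
      invFun := fun n => ⟨k0 * n.1, by rw [map_mul, MonoidHom.mem_ker.1 n.2, mul_one]⟩
      left_inv := fun k => Subtype.ext (mul_inv_cancel_left k0 k.1)
      right_inv := fun n => Subtype.ext (inv_mul_cancel_left k0 n.1) }

/-- Two involutions congruent modulo a subgroup of odd order are conjugate by it. -/
theorem conj_of_mul_mem {O : Subgroup G} (hO : Odd (Nat.card O)) {a b : G} (ha : orderOf a = 2)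
    (hb : orderOf b = 2) (h : a * b ∈ O) : ∃ o ∈ O, o * a * o⁻¹ = b := by
  obtain ⟨n, hn⟩ := hO.of_dvd_nat (Subgroup.orderOf_dvd_natCard _ h)
  refine ⟨(a * b) ^ n, pow_mem h n, ?_⟩
  have h1 : a * ((a * b) ^ n)⁻¹ = (a * b) ^ n * a := by
    rw [← zpow_natCast, ← zpow_neg, mul_pair_zpow ha hb, neg_neg]
  rw [mul_assoc, h1, ← mul_assoc, ← pow_add]
  have h2 : (a * b) ^ (n + n) * (a * b) = 1 := by
    rw [← pow_succ, show n + n + 1 = 2 * n + 1 by ring, ← hn, pow_orderOf_eq_one]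
  rw [eq_inv_of_mul_eq_one_left h2, mul_inv_rev, involution_inv ha, involution_inv hb, mul_assoc,
    involution_sq ha, mul_one]

namespace Frame

variable {S : Sylow 2 G} {A E F : Subgroup G} (f : Frame S A E F) {u w : G} (hu : Base A E u)
  (hw : Base A F w) {z : G} (hz : z ∈ A) (hz1 : z ≠ 1)

include f hu hw hz hz1

theorem class_disjoint {p : G} (hp : IsConj u p) : ¬ IsConj w p := fun h => by
  obtain ⟨g, rfl⟩ := isConj_iff.1 hp
  have e : g⁻¹ * (g * u * g⁻¹) * g⁻¹⁻¹ = u := by group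
  have h1 := f.swap.mem_class hw h (h := g⁻¹) (by rw [e]; exact f.leE hu.mem)
  rw [e] at h1
  exact f.apart u hu.mem hu.out u h1.1 hu.out (Commute.refl u)

/-- The involution of a pair `(p, q)` is conjugate to `z`. -/
theorem pair_central {p q : G} (hp : IsConj u p) (hq : IsConj w q) :
    ∃ v, IsConj z v ∧ v ∈ zpowers (p * q) ∧ Commute v p ∧ Commute v q := by
  have hp2 := f.two hu hp
  have hq2 := f.swap.two hw hq
  have heven : Even (orderOf (p * q)) := by
    rw [← Nat.not_odd_iff_even]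
    intro ho
    obtain ⟨d, -, hd⟩ := exists_conj_of_odd hp2 hq2 ho
    exact f.class_disjoint hu hw hz hz1 (hp.trans (isConj_iff.2 ⟨d, hd⟩)) hq
  obtain ⟨hv2, hvp, hvq⟩ := central_involution hp2 hq2 heven
  set v := (p * q) ^ (orderOf (p * q) / 2)
  refine ⟨v, ?_, pow_mem (mem_zpowers _) _, hvp, hvq⟩
  have key : ∀ {E' F' : Subgroup G} (f' : Frame S A E' F') {x : G} (hx : Base A E' x) {y : G},
      IsConj x y → Commute v y → IsConj z v ∨ IsConj x v := by
    intro E' F' f' x hx y hy hvy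
    obtain ⟨h, hyS, hvS⟩ := exists_pair_sylow S (involution_sq (f'.two hx hy)) (j := 1) (t := v)
      (by rw [hv2, pow_one]) (Or.inl (by rw [← hvy.eq, mul_inv_cancel_right]))
    obtain ⟨hyE, hyA⟩ := f'.mem_class hx hy hyS
    set v' := h * v * h⁻¹ with hv'
    have hv'2 : orderOf v' = 2 := (CfsgLib.Signalizer.orderOf_conj h v).trans hv2
    have hback : ∀ {x' : G}, IsConj x' v' → IsConj x' v := fun h' => h'.trans (isConj_conj h v).symm
    by_cases hA : v' ∈ A
    · exact Or.inl (hback (f.class_z hz hz1 hA (involution_ne_one hv'2)))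
    rcases f'.invol v' hvS (involution_sq hv'2) with h' | h'
    · exact Or.inr (hback (f'.class_of_mem hx h' hA))
    · exact absurd ((Commute.conj_iff h).2 hvy.symm) (f'.apart _ hyE hyA v' h' hA)
  rcases key f hu hp hvp with h | h
  · exact h
  rcases key f.swap hw hq hvq with h' | h'
  · exact h'
  exact absurd h' (f.class_disjoint hu hw hz hz1 h)

/-- `|u^G| |w^G| = |z^G| · #(pairs with involution z)`. -/
theorem card_pairs : Nat.card {p : G // IsConj u p} * Nat.card {p : G // IsConj w p} =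
    Nat.card {p : G // IsConj z p} * Nat.card (ClassPairs u w z) := by
  let φ : (Σ v : {v : G // IsConj z v}, ClassPairs u w v.1) →
      {p : G // IsConj u p} × {p : G // IsConj w p} :=
    fun s => (⟨s.2.1.1, s.2.2.1⟩, ⟨s.2.1.2, s.2.2.2.1⟩)
  have hφ : Function.Bijective φ := by
    constructor
    · rintro ⟨⟨v, hv⟩, ⟨⟨p, q⟩, hpq⟩⟩ ⟨⟨v', hv'⟩, ⟨⟨p', q'⟩, hpq'⟩⟩ h
      simp only [φ, Prod.mk.injEq, Subtype.mk.injEq] at h
      obtain ⟨rfl, rfl⟩ := h
      obtain rfl := unique_involution_in_zpowers hpq.2.2 hpq'.2.2 (f.two_z hz hz1 hv) (f.two_z hz hz1 hv')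
      rfl
    · rintro ⟨⟨p, hp⟩, ⟨q, hq⟩⟩
      obtain ⟨v, hv, hvr, -, -⟩ := f.pair_central hu hw hz hz1 hp hq
      exact ⟨⟨⟨v, hv⟩, ⟨(p, q), hp, hq, hvr⟩⟩, rfl⟩
  haveI := Fintype.ofFinite {v : G // IsConj z v}
  have h := Nat.card_congr (Equiv.ofBijective φ hφ)
  rw [Nat.card_sigma, Finset.sum_congr rfl fun v _ => card_classPairs_conj u w v.2, Finset.sum_const,
    Finset.card_univ, smul_eq_mul, ← Nat.card_eq_fintype_card, Nat.card_prod] at h
  exact h.symm

omit hw in
/-- `C(A)` is transitive on the members of the class in it. -/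
theorem conj_in_K {q : G} (hq : IsConj u q) (hqK : q ∈ centralizer (A : Set G)) :
    ∃ c ∈ centralizer (A : Set G), c * u * c⁻¹ = q := by
  haveI : Fact (Nat.Prime 2) := ⟨Nat.prime_two⟩
  obtain ⟨R, hR, hSR, -, k', hk', hkQ⟩ := exists_conj_le S.2 f.set.le_centralizer
    (isPGroup_zpowers_two (x := q) (j := 1) (by rw [f.two hu hq, pow_one])) (zpowers_le.2 hqK)
  obtain rfl : R = (S : Subgroup G) := S.3 hR hSR
  have hkq := hkQ q (mem_zpowers q)
  obtain ⟨hE, hA⟩ := f.mem_class hu hq hkq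
  obtain ⟨n, hn, hne⟩ := f.transE u hu.mem hu.out _ hE hA
  obtain ⟨r, hr, hru, hrz⟩ := hu.stab z hz (n⁻¹ * z * n) ((mem_normalizer_iff''.1 hn z).1 hz) hz1
    fun e => hz1 (by
      have e' := congrArg (fun t => n * t * n⁻¹) e
      simp only [mul_one, mul_inv_cancel] at e'
      rwa [show n * (n⁻¹ * z * n) * n⁻¹ = z by group] at e')
  have hfix : n * r ∈ centralizer (A : Set G) := f.set.fix_one (mul_mem hn hr) hz hz1 (by
    rw [show n * r * z * (n * r)⁻¹ = n * (r * z * r⁻¹) * n⁻¹ by group, hrz]; group)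
  refine ⟨k'⁻¹ * (n * r), mul_mem (inv_mem hk') hfix, ?_⟩
  rw [show k'⁻¹ * (n * r) * u * (k'⁻¹ * (n * r))⁻¹ = k'⁻¹ * (n * (r * u * r⁻¹) * n⁻¹) * k' by group, hru.eq,
    mul_inv_cancel_right, hne]
  group

omit hw in
/-- `C(z)` is transitive on the members of the class in it. -/
theorem conj_in_H {p : G} (hp : IsConj u p) (hpz : Commute p z) :
    ∃ g ∈ centralizer ({z} : Set G), g * u * g⁻¹ = p := by
  obtain ⟨h, hzS, hpS⟩ := exists_pair_sylow S (f.set.sq z hz) (j := 1) (t := p)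
    (by rw [f.two hu hp, pow_one]) (Or.inl (by rw [hpz.symm.eq, mul_inv_cancel_right]))
  obtain ⟨hzA, hzA1⟩ := f.mem_z hz hz1 (IsConj.refl z) hzS
  obtain ⟨hE, hA⟩ := f.mem_class hu hp hpS
  obtain ⟨n, hn, hne⟩ := f.transE u hu.mem hu.out _ hE hA
  obtain ⟨r, hr, hru, hrz⟩ := hu.stab z hz (n⁻¹ * (h * z * h⁻¹) * n) ((mem_normalizer_iff''.1 hn _).1 hzA) hz1
    fun e => hzA1 (by
      have e' := congrArg (fun t => n * t * n⁻¹) e
      simp only [mul_one, mul_inv_cancel] at e'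
      rwa [show n * (n⁻¹ * (h * z * h⁻¹) * n) * n⁻¹ = h * z * h⁻¹ by group] at e')
  refine ⟨h⁻¹ * n * r, mem_centralizer_singleton_iff.2 (mul_inv_eq_iff_eq_mul.1 ?_), ?_⟩
  · rw [show h⁻¹ * n * r * z * (h⁻¹ * n * r)⁻¹ = h⁻¹ * (n * (r * z * r⁻¹) * n⁻¹) * h by group, hrz]
    group
  · rw [show h⁻¹ * n * r * u * (h⁻¹ * n * r)⁻¹ = h⁻¹ * (n * (r * u * r⁻¹) * n⁻¹) * h by group, hru.eq,
      mul_inv_cancel_right, hne]
    group

omit hu hw in
/-- `C(z) = O(C(z)) C(A)`. -/
theorem centralizer_eq : ∀ g : centralizer ({z} : Set G),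
    ∃ c : centralizer ({z} : Set G), (c : G) ∈ centralizer (A : Set G) ∧
      g * c⁻¹ ∈ Cfsg.oddCore (centralizer ({z} : Set G)) := by
  haveI : Fact (Nat.Prime 2) := ⟨Nat.prime_two⟩
  set H := centralizer ({z} : Set G) with hH
  intro g
  obtain ⟨a, ha, ha1, haz⟩ := f.set.exists_third hz
  have hSH : (S : Subgroup G) ≤ H := fun s hs =>
    mem_centralizer_singleton_iff.2 (f.set.central z hz s hs).eq.symm
  set T := S.subtype hSH with hT
  have hTm : ∀ c : H, c ∈ (T : Subgroup H) ↔ (c : G) ∈ (S : Subgroup G) := fun c => by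
    rw [hT, Sylow.coe_subtype, mem_subgroupOf]
  set a0 : H := ⟨a, hSH (f.set.le ha)⟩
  have ha2 : orderOf a0 = 2 := by
    rw [Subgroup.orderOf_mk]; exact orderOf_eq_two_of ha1 (f.set.sq a ha)
  have hiso : ∀ c : H, c * a0 * c⁻¹ ∈ (T : Subgroup H) → c * a0 * c⁻¹ = a0 := by
    intro c hc
    have hcz : (c : G) * z * (c : G)⁻¹ = z := by
      rw [mem_centralizer_singleton_iff.1 c.2, mul_inv_cancel_right]
    have hca : (c : G) * a * (c : G)⁻¹ ∈ A := f.set.conj_mem ha ((hTm _).1 hc)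
    have hn : (c : G) ∈ normalizer (A : Set G) := mem_normalizer_of_map fun x hx => by
      rcases f.set.four hz ha hz1 ha1 haz.symm hx with e | e | e | e <;> rw [e]
      · rw [mul_one, mul_inv_cancel]; exact one_mem A
      · rw [hcz]; exact hz
      · exact hca
      · rw [show (c : G) * (z * a) * (c : G)⁻¹ = (c : G) * z * (c : G)⁻¹ * ((c : G) * a * (c : G)⁻¹) by group,
          hcz]
        exact mul_mem hz hca
    have h1 := mem_centralizer_iff.1 (f.set.fix_one hn hz hz1 hcz) a ha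
    exact Subtype.ext (show (c : G) * a * (c : G)⁻¹ = a by rw [← h1, mul_inv_cancel_right])
  have h1 := CfsgLib.ZStar.mem_oddCore_of_sylow T ha2 ((hTm a0).2 (f.set.le ha)) hiso g
  have hmem : a0 * (g * a0 * g⁻¹) ∈ Cfsg.oddCore H := by
    rw [involution_inv ha2] at h1
    simpa [mul_assoc] using h1
  obtain ⟨o, ho, hoe⟩ := conj_of_mul_mem (CfsgLib.ZStar.odd_card_oddCore H) ha2
    ((CfsgLib.Signalizer.orderOf_conj g a0).trans ha2) hmem
  refine ⟨o⁻¹ * g, ?_, ?_⟩
  · have hfix : Commute ((o⁻¹ * g : H) : G) a := by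
      have h2 : o⁻¹ * g * a0 = a0 * (o⁻¹ * g) :=
        calc o⁻¹ * g * a0 = o⁻¹ * (g * a0 * g⁻¹) * g := by group
          _ = _ := by rw [← hoe]; group
      exact congrArg Subtype.val h2
    have hzc : Commute ((o⁻¹ * g : H) : G) z := mem_centralizer_singleton_iff.1 (o⁻¹ * g).2
    refine mem_centralizer_iff.2 fun x hx => ?_
    rcases f.set.four hz ha hz1 ha1 haz.symm hx with e | e | e | e <;> rw [e]
    · rw [one_mul, mul_one]
    · exact hzc.eq.symm
    · exact hfix.eq.symm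
    · exact (hzc.mul_right hfix).eq.symm
  · rw [show g * (o⁻¹ * g)⁻¹ = o by group]
    exact ho

/-- In `C(A)`: a third of the pairs for each involution of `A`. -/
theorem third_K : 3 * Nat.card {x : ↥(centralizer (A : Set G)) × ↥(centralizer (A : Set G)) //
      z ∈ zpowers ((x.1 : G) * u * (x.1 : G)⁻¹ * ((x.2 : G) * w * (x.2 : G)⁻¹))} =
    Nat.card (centralizer (A : Set G)) * Nat.card (centralizer (A : Set G)) := by
  haveI : Fact (Nat.Prime 2) := ⟨Nat.prime_two⟩
  set K := centralizer (A : Set G) with hK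
  have huK : u ∈ K := f.set.le_centralizer (f.leE hu.mem)
  have hwK : w ∈ K := f.set.le_centralizer (f.leF hw.mem)
  let n : G → G → ℕ := fun g a => Nat.card {h : K // a ∈ zpowers (g * u * g⁻¹ * ((h : G) * w * (h : G)⁻¹))}
  have hshift : ∀ (g : K) (a : G), a ∈ A → n g a = n 1 a := by
    intro g a ha
    have hga : (g : G) * a * (g : G)⁻¹ = a := by
      rw [← mem_centralizer_iff.1 g.2 a ha, mul_inv_cancel_right]
    refine Nat.card_congr (Equiv.subtypeEquiv (Equiv.mulLeft g⁻¹) fun h => ?_)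
    have e : (g : G) * u * (g : G)⁻¹ * ((h : G) * w * (h : G)⁻¹) =
        (g : G) * (1 * u * (1 : G)⁻¹ * (((g⁻¹ * h : K) : G) * w * ((g⁻¹ * h : K) : G)⁻¹)) * (g : G)⁻¹ := by
      rw [coe_mul, coe_inv]; group
    rw [e]
    conv_lhs => rw [← hga]
    simp only [mem_zpowers_iff, conj_zpow, mul_left_inj, mul_right_inj]
    rfl
  have hrho : ∀ a ∈ A, ∀ b ∈ A, a ≠ 1 → b ≠ 1 → n 1 a = n 1 b := by
    intro a ha b hb ha1 hb1
    obtain ⟨r, hr, hru, hrab⟩ := hu.stab a ha b hb ha1 hb1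
    obtain ⟨c, hc, hcw⟩ := f.swap.conj_in_K hw hz hz1 (isConj_conj r w) (f.set.conj_centralizer hr hwK)
    have hrK : ∀ {x : G}, x ∈ K → r⁻¹ * x * r ∈ K := fun hx => by
      have := f.set.conj_centralizer (inv_mem hr) hx
      rwa [inv_inv] at this
    let e : K ≃ K :=
      { toFun := fun h => ⟨r * h * r⁻¹ * c, mul_mem (f.set.conj_centralizer hr h.2) hc⟩
        invFun := fun h => ⟨r⁻¹ * (h * c⁻¹) * r, hrK (mul_mem h.2 (inv_mem hc))⟩
        left_inv := fun h => Subtype.ext (show r⁻¹ * (r * h * r⁻¹ * c * c⁻¹) * r = (h : G) by group)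
        right_inv := fun h => Subtype.ext (show r * (r⁻¹ * (h * c⁻¹) * r) * r⁻¹ * c = (h : G) by group) }
    refine Nat.card_congr (Equiv.subtypeEquiv e fun h => ?_)
    have he : 1 * u * (1 : G)⁻¹ * ((e h : G) * w * (e h : G)⁻¹) =
        r * (1 * u * (1 : G)⁻¹ * ((h : G) * w * (h : G)⁻¹)) * r⁻¹ := by
      show 1 * u * (1 : G)⁻¹ * (r * h * r⁻¹ * c * w * (r * h * r⁻¹ * c)⁻¹) = _
      rw [show r * h * r⁻¹ * c * w * (r * h * r⁻¹ * c)⁻¹ = r * h * r⁻¹ * (c * w * c⁻¹) * r * (h : G)⁻¹ * r⁻¹ by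
        group, hcw, show r * (1 * u * (1 : G)⁻¹ * ((h : G) * w * (h : G)⁻¹)) * r⁻¹ =
          r * u * r⁻¹ * (r * ((h : G) * w * (h : G)⁻¹) * r⁻¹) by group, hru.eq]
      group
    rw [he, ← hrab]
    simp only [mem_zpowers_iff, conj_zpow, mul_left_inj, mul_right_inj]
  haveI := Fintype.ofFinite {a : G // a ∈ A ∧ a ≠ 1}
  haveI := Fintype.ofFinite K
  have hA3 : Fintype.card {a : G // a ∈ A ∧ a ≠ 1} = 3 := by
    classical
    haveI := Fintype.ofFinite A
    rw [Fintype.card_congr (show {a : G // a ∈ A ∧ a ≠ 1} ≃ {a : A // a ≠ 1} from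
      { toFun := fun a => ⟨⟨a.1, a.2.1⟩, fun h => a.2.2 (congrArg Subtype.val h)⟩
        invFun := fun a => ⟨a.1.1, a.1.2, fun h => a.2 (Subtype.ext h)⟩
        left_inv := fun _ => rfl
        right_inv := fun _ => rfl }), Fintype.card_subtype_compl, Fintype.card_subtype_eq,
      ← Nat.card_eq_fintype_card, f.set.card]
  have hfun : Nat.card K = 3 * n 1 z := by
    have hex : ∀ h : K, ∃ a : {a : G // a ∈ A ∧ a ≠ 1},
        (a : G) ∈ zpowers (1 * u * (1 : G)⁻¹ * ((h : G) * w * (h : G)⁻¹)) := by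
      intro h
      have hhK : (h : G) * w * (h : G)⁻¹ ∈ K := mul_mem (mul_mem h.2 hwK) (inv_mem h.2)
      obtain ⟨v, hv, hvr, -, -⟩ := f.pair_central hu hw hz hz1 (IsConj.refl u) (isConj_conj (h : G) w)
      have hvK : v ∈ K := zpowers_le.2 (mul_mem huK hhK) hvr
      obtain ⟨R, hR, hSR, -, k', hk', hkQ⟩ := exists_conj_le S.2 f.set.le_centralizer
        (isPGroup_zpowers_two (x := v) (j := 1) (by rw [f.two_z hz hz1 hv, pow_one])) (zpowers_le.2 hvK)
      obtain rfl : R = (S : Subgroup G) := S.3 hR hSR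
      obtain ⟨hvA, hv1⟩ := f.mem_z hz hz1 hv (hkQ v (mem_zpowers v))
      have e : v = k' * v * k'⁻¹ := by
        have h1 := mem_centralizer_iff.1 hk' _ hvA
        exact mul_left_cancel ((show k' * v = k' * v * k'⁻¹ * k' by group).trans h1)
      exact ⟨⟨v, e ▸ hvA, e ▸ hv1⟩, by rw [one_mul, inv_one, mul_one]; exact hvr⟩
    have e : (Σ a : {a : G // a ∈ A ∧ a ≠ 1},
        {h : K // (a : G) ∈ zpowers (1 * u * (1 : G)⁻¹ * ((h : G) * w * (h : G)⁻¹))}) ≃ K :=
      Equiv.ofBijective (fun s => s.2.1) (by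
        constructor
        · rintro ⟨⟨a, ha⟩, ⟨h, hh⟩⟩ ⟨⟨b, hb⟩, ⟨h', hh'⟩⟩ e
          change h = h' at e
          subst e
          obtain rfl : a = b := unique_involution_in_zpowers hh hh'
            (orderOf_eq_two_of ha.2 (f.set.sq a ha.1)) (orderOf_eq_two_of hb.2 (f.set.sq b hb.1))
          rfl
        · intro h
          obtain ⟨a, ha⟩ := hex h
          exact ⟨⟨a, h, ha⟩, rfl⟩)
    rw [← Nat.card_congr e, Nat.card_sigma,
      Finset.sum_congr rfl fun a _ => show _ = n 1 z from hrho a.1 a.2.1 z hz a.2.2 hz1, Finset.sum_const,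
      Finset.card_univ, hA3, smul_eq_mul]
  let e2 : {x : K × K // z ∈ zpowers ((x.1 : G) * u * (x.1 : G)⁻¹ * ((x.2 : G) * w * (x.2 : G)⁻¹))} ≃
      Σ g : K, {h : K // z ∈ zpowers ((g : G) * u * (g : G)⁻¹ * ((h : G) * w * (h : G)⁻¹))} :=
    { toFun := fun x => ⟨x.1.1, x.1.2, x.2⟩
      invFun := fun s => ⟨(s.1, s.2.1), s.2.2⟩
      left_inv := fun _ => rfl
      right_inv := fun _ => rfl }
  rw [Nat.card_congr e2, Nat.card_sigma,
    Finset.sum_congr rfl fun g _ => show _ = n 1 z from hshift g z hz, Finset.sum_const, Finset.card_univ,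
    smul_eq_mul, ← Nat.card_eq_fintype_card, mul_left_comm, ← hfun]

/-- In `C(z)`: a third of the pairs have involution `z`. -/
theorem third_H : 3 * Nat.card (ClassPairs u w z) = Nat.card (Dset u z) * Nat.card (Dset w z) := by
  haveI : Fact (Nat.Prime 2) := ⟨Nat.prime_two⟩
  set H := centralizer ({z} : Set G) with hH
  set K := centralizer (A : Set G) with hK
  have hKH : K ≤ H := fun c hc => mem_centralizer_singleton_iff.2 (mem_centralizer_iff.1 hc z hz).symm
  have huH : u ∈ H := mem_centralizer_singleton_iff.2 (f.set.central z hz u (f.leE hu.mem)).eq.symm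
  have hwH : w ∈ H := mem_centralizer_singleton_iff.2 (f.set.central z hz w (f.leF hw.mem)).eq.symm
  set O := Cfsg.oddCore H with hO
  haveI : O.Normal := inferInstance
  set π := QuotientGroup.mk' O with hπ
  set u0 : H := ⟨u, huH⟩
  set w0 : H := ⟨w, hwH⟩
  set z0 : H := ⟨z, mem_centralizer_singleton_iff.2 rfl⟩
  let P : (H ⧸ O) × (H ⧸ O) → Prop := fun x =>
    π z0 ∈ zpowers (x.1 * π u0 * x.1⁻¹ * (x.2 * π w0 * x.2⁻¹))
  have hiff : ∀ g h : H, (z ∈ zpowers ((g : G) * u * (g : G)⁻¹ * ((h : G) * w * (h : G)⁻¹))) ↔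
      P (π g, π h) := by
    intro g h
    set r : H := g * u0 * g⁻¹ * (h * w0 * h⁻¹) with hr
    have hrG : (r : G) = (g : G) * u * (g : G)⁻¹ * ((h : G) * w * (h : G)⁻¹) := rfl
    have hPr : P (π g, π h) ↔ π z0 ∈ zpowers (π r) := by simp [P, hr]
    rw [hPr, ← hrG]
    constructor
    · intro hzr
      obtain ⟨i, hi⟩ := mem_zpowers_iff.1 hzr
      exact mem_zpowers_iff.2 ⟨i, by rw [← map_zpow, show r ^ i = z0 from Subtype.ext (by rw [SubgroupClass.coe_zpow]; exact hi)]⟩
    · intro hzr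
      obtain ⟨v, hv, hvr, -, -⟩ := f.pair_central hu hw hz hz1 (isConj_conj (g : G) u) (isConj_conj (h : G) w)
      rw [← hrG] at hvr
      obtain ⟨i, hi⟩ := mem_zpowers_iff.1 hvr
      have hv2 : orderOf (r ^ i) = 2 := by
        rw [← Subgroup.orderOf_coe, SubgroupClass.coe_zpow, hi, f.two_z hz hz1 hv]
      have hnot : ∀ x : H, orderOf x = 2 → π x ≠ 1 := fun x hx e => by
        have hxO : x ∈ O := (QuotientGroup.eq_one_iff x).1 e
        have h2 := (CfsgLib.ZStar.odd_card_oddCore H).of_dvd_nat (Subgroup.orderOf_dvd_natCard _ hxO)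
        rw [hx] at h2
        exact absurd h2 (by decide)
      have hq2 : ∀ x : H, orderOf x = 2 → orderOf (π x) = 2 := fun x hx =>
        orderOf_eq_two_of (hnot x hx) (by rw [← map_mul, involution_sq hx, map_one])
      have hz02 : orderOf z0 = 2 := by
        rw [Subgroup.orderOf_mk]; exact orderOf_eq_two_of hz1 (f.set.sq z hz)
      have heq : π z0 = π (r ^ i) := unique_involution_in_zpowers hzr
        (by rw [map_zpow]; exact zpow_mem (mem_zpowers _) i) (hq2 _ hz02) (hq2 _ hv2)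
      have hprod : z0⁻¹ * r ^ i = 1 := by
        by_contra hne
        refine hnot _ (orderOf_eq_two_of hne ?_) (by rw [map_mul, map_inv, heq, inv_mul_cancel])
        have hc : Commute (r ^ i) z0⁻¹ :=
          Commute.inv_right (Subtype.ext (mem_centralizer_singleton_iff.1 (r ^ i).2))
        rw [hc.mul_mul_mul_comm, ← mul_inv_rev, involution_sq hz02, involution_sq hv2, inv_one, one_mul]
      have he := congrArg Subtype.val (inv_mul_eq_one.1 hprod)
      rw [SubgroupClass.coe_zpow] at he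
      exact mem_zpowers_iff.2 ⟨i, he.symm⟩
  -- pairs of elements of `C(z)`
  let fH : H × H → (H ⧸ O) × (H ⧸ O) := fun x => (π x.1, π x.2)
  let φK : K →* H ⧸ O := π.comp (Subgroup.inclusion hKH)
  let fK : K × K → (H ⧸ O) × (H ⧸ O) := fun x => (φK x.1, φK x.2)
  have hπs : Function.Surjective π := QuotientGroup.mk'_surjective O
  have hφs : Function.Surjective φK := fun q => by
    obtain ⟨g, rfl⟩ := hπs q
    obtain ⟨c, hcK, hgc⟩ := f.centralizer_eq hz hz1 g
    refine ⟨⟨c, hcK⟩, ?_⟩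
    show π (Subgroup.inclusion hKH ⟨c, hcK⟩) = π g
    rw [show Subgroup.inclusion hKH ⟨(c : G), hcK⟩ = c from Subtype.ext rfl]
    have h1 := (QuotientGroup.eq_one_iff _).2 hgc
    rw [QuotientGroup.mk_mul, QuotientGroup.mk_inv, mul_inv_eq_one] at h1
    exact h1.symm
  have hfib : ∀ {L : Type _} [Group L] [Finite L] (φ : L →* H ⧸ O), Function.Surjective φ →
      ∀ b : (H ⧸ O) × (H ⧸ O), Nat.card {x : L × L // (φ x.1, φ x.2) = b} =
        Nat.card φ.ker * Nat.card φ.ker := by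
    intro L _ _ φ hφ b
    rw [← card_fibre_hom φ hφ b.1]
    conv_rhs => arg 2; rw [card_fibre_hom φ hφ b.1, ← card_fibre_hom φ hφ b.2]
    rw [← Nat.card_prod]
    refine Nat.card_congr
      { toFun := fun x => (⟨x.1.1, congrArg Prod.fst x.2⟩, ⟨x.1.2, congrArg Prod.snd x.2⟩)
        invFun := fun s => ⟨(s.1.1, s.2.1), Prod.ext s.1.2 s.2.2⟩
        left_inv := fun _ => rfl
        right_inv := fun _ => rfl }
  have hH1 := card_fibres fH (hfib π hπs) P
  have hH2 := card_all fH (hfib π hπs)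
  have hK1 := card_fibres fK (hfib φK hφs) P
  have hK2 := card_all fK (hfib φK hφs)
  rw [Nat.card_prod] at hH2 hK2
  have hK3 := f.third_K hu hw hz hz1
  rw [← hK] at hK3
  have eK : Nat.card {x : K × K // z ∈ zpowers ((x.1 : G) * u * (x.1 : G)⁻¹ * ((x.2 : G) * w * (x.2 : G)⁻¹))} =
      Nat.card {x : K × K // P (fK x)} :=
    Nat.card_congr (Equiv.subtypeEquivRight fun x =>
      hiff (Subgroup.inclusion hKH x.1) (Subgroup.inclusion hKH x.2))
  rw [eK, hK1, hK2, mul_left_comm] at hK3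
  have hq : 3 * Nat.card {b // P b} = Nat.card ((H ⧸ O) × (H ⧸ O)) :=
    Nat.eq_of_mul_eq_mul_left (Nat.mul_pos Nat.card_pos Nat.card_pos) hK3
  have hT : 3 * Nat.card {x : H × H // P (fH x)} = Nat.card H * Nat.card H := by
    rw [hH1, hH2, mul_left_comm, hq]
  -- pairs of conjugates
  let γ : H × H → Dset u z × Dset w z := fun x =>
    (⟨(x.1 : G) * u * (x.1 : G)⁻¹, isConj_conj _ u, mem_centralizer_singleton_iff.1
        (mul_mem (mul_mem x.1.2 huH) (inv_mem x.1.2))⟩,
      ⟨(x.2 : G) * w * (x.2 : G)⁻¹, isConj_conj _ w, mem_centralizer_singleton_iff.1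
        (mul_mem (mul_mem x.2.2 hwH) (inv_mem x.2.2))⟩)
  have horb : ∀ {x : G} (_ : x ∈ H), (∀ d : Dset x z, ∃ g : H, (g : G) * x * (g : G)⁻¹ = d.1) →
      ∀ d : Dset x z, Nat.card {g : H // (g : G) * x * (g : G)⁻¹ = d.1} =
        Nat.card {g : H // (g : G) * x * (g : G)⁻¹ = x} := by
    intro x _ hsur d
    obtain ⟨g0, hg0⟩ := hsur d
    refine (Nat.card_congr (Equiv.subtypeEquiv (Equiv.mulLeft g0) fun g => ?_)).symm
    rw [← hg0, Equiv.coe_mulLeft, coe_mul,
      show (g0 : G) * g * x * ((g0 : G) * g)⁻¹ = (g0 : G) * ((g : G) * x * (g : G)⁻¹) * (g0 : G)⁻¹ by group,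
      mul_left_inj, mul_right_inj]
  have hsu : ∀ d : Dset u z, ∃ g : H, (g : G) * u * (g : G)⁻¹ = d.1 := fun d => by
    obtain ⟨g, hg, e⟩ := f.conj_in_H hu hz hz1 d.2.1 d.2.2
    exact ⟨⟨g, hg⟩, e⟩
  have hsw : ∀ d : Dset w z, ∃ g : H, (g : G) * w * (g : G)⁻¹ = d.1 := fun d => by
    obtain ⟨g, hg, e⟩ := f.swap.conj_in_H hw hz hz1 d.2.1 d.2.2
    exact ⟨⟨g, hg⟩, e⟩
  set cu := Nat.card {g : H // (g : G) * u * (g : G)⁻¹ = u}
  set cw := Nat.card {g : H // (g : G) * w * (g : G)⁻¹ = w}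
  have hγ : ∀ b, Nat.card {x // γ x = b} = cu * cw := by
    intro b
    rw [show cu = _ from (horb huH hsu b.1).symm, show cw = _ from (horb hwH hsw b.2).symm, ← Nat.card_prod]
    refine Nat.card_congr
      { toFun := fun x => (⟨x.1.1, congrArg (fun t => t.1.1) x.2⟩, ⟨x.1.2, congrArg (fun t => t.2.1) x.2⟩)
        invFun := fun s => ⟨(s.1.1, s.2.1), Prod.ext (Subtype.ext s.1.2) (Subtype.ext s.2.2)⟩
        left_inv := fun _ => rfl
        right_inv := fun _ => rfl }
  have hG1 := card_fibres γ hγ fun b => z ∈ zpowers ((b.1 : G) * (b.2 : G))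
  have hG2 := card_all γ hγ
  rw [Nat.card_prod, Nat.card_prod] at hG2
  have e1 : Nat.card {x : H × H // P (fH x)} =
      Nat.card {x : H × H // z ∈ zpowers ((γ x).1.1 * (γ x).2.1)} :=
    Nat.card_congr (Equiv.subtypeEquivRight fun x => (hiff x.1 x.2).symm)
  have hpc : ∀ {p q : G}, IsConj u p → IsConj w q → z ∈ zpowers (p * q) → Commute p z ∧ Commute q z := by
    intro p q hp hq hpq
    obtain ⟨v, hv, hvr, hvp, hvq⟩ := f.pair_central hu hw hz hz1 hp hq
    obtain rfl := unique_involution_in_zpowers hpq hvr (orderOf_eq_two_of hz1 (f.set.sq z hz)) (f.two_z hz hz1 hv)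
    exact ⟨hvp.symm, hvq.symm⟩
  have e3 : Nat.card {b : Dset u z × Dset w z // z ∈ zpowers ((b.1 : G) * (b.2 : G))} =
      Nat.card (ClassPairs u w z) :=
    Nat.card_congr
      { toFun := fun b => ⟨(b.1.1.1, b.1.2.1), b.1.1.2.1, b.1.2.2.1, b.2⟩
        invFun := fun p => ⟨(⟨p.1.1, p.2.1, (hpc p.2.1 p.2.2.1 p.2.2.2).1⟩,
          ⟨p.1.2, p.2.2.1, (hpc p.2.1 p.2.2.1 p.2.2.2).2⟩), p.2.2.2⟩
        left_inv := fun _ => rfl
        right_inv := fun _ => rfl }
  rw [e1, hG1, e3, hG2, mul_left_comm] at hT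
  haveI : Nonempty {g : H // (g : G) * u * (g : G)⁻¹ = u} := ⟨⟨1, by simp⟩⟩
  haveI : Nonempty {g : H // (g : G) * w * (g : G)⁻¹ = w} := ⟨⟨1, by simp⟩⟩
  exact Nat.eq_of_mul_eq_mul_left (Nat.mul_pos Nat.card_pos Nat.card_pos) hT

omit hu hw hz hz1 in
theorem false : False := by
  obtain ⟨u, hu⟩ := f.exists_base
  obtain ⟨w, hw⟩ := f.swap.exists_base
  obtain ⟨z, hz, hz1⟩ := f.set.exists_ne_one
  have h1 := f.third_lt hu hz hz1
  have h2 := f.swap.third_lt hw hz hz1
  have h3 := f.card_pairs hu hw hz hz1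
  have h4 := f.third_H hu hw hz hz1
  have h5 := incidences z u
  have h6 := incidences z w
  set Z := Nat.card {p : G // IsConj z p}
  set U := Nat.card {p : G // IsConj u p}
  set W := Nat.card {p : G // IsConj w p}
  set N := Nat.card (Dset z u)
  set N' := Nat.card (Dset z w)
  set a := Nat.card (ClassPairs u w z)
  set Uz := Nat.card (Dset u z)
  set Wz := Nat.card (Dset w z)
  haveI : Nonempty {p : G // IsConj u p} := ⟨⟨u, IsConj.refl u⟩⟩
  haveI : Nonempty {p : G // IsConj w p} := ⟨⟨w, IsConj.refl w⟩⟩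
  have hUW : 0 < U * W := Nat.mul_pos Nat.card_pos Nat.card_pos
  have h7 : U * W * (3 * Z) = U * W * (N * N') := by
    calc U * W * (3 * Z) = Z * a * (3 * Z) := by rw [h3]
      _ = Z * Z * (3 * a) := by ring
      _ = (Z * Uz) * (Z * Wz) := by rw [h4]; ring
      _ = U * W * (N * N') := by rw [h5, h6]; ring
  have h8 := Nat.eq_of_mul_eq_mul_left hUW h7
  have h9 := Nat.mul_lt_mul_of_lt_of_lt h1 h2
  rw [h8] at h9
  exact absurd h9 (by rw [show N * N * (N' * N') = N * N' * (N * N') by ring]; exact lt_irrefl _)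

end Frame

/-- **G1.** A four group with bad outer involutions is not strongly closed in the centre of a Sylow
2-subgroup. -/
theorem Setting.false {S : Sylow 2 G} {A : Subgroup G} (s : Setting S A) : False := by
  obtain ⟨E, F, f⟩ := s.exists_frame
  exact f.false

end CfsgLib.Goldschmidt.RankTwo
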