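import Cfsg.Agent.Lib.Invol.Goldschmidt.RankTwo.Beta

/-!
Owner: helper18.  G1, case beta, second part: the action of `N(S)` on `S/A` and the frame.
-/

set_option autoImplicit false
set_option linter.unusedSectionVars false
set_option linter.style.haveILetI false

namespace CfsgLib.Goldschmidt.RankTwo

open Subgroup

variable {G : Type*} [Group G] [Finite G]

namespace Cls

variable {S : Sylow 2 G} {A : Subgroup G} (k : Cls S A) [hN : (A.subgroupOf (S : Subgroup G)).Normal]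

set_option quotPrecheck false in
local notation "N" => normalizer ((S : Subgroup G) : Set G)
set_option quotPrecheck false in
local notation "Q" => (↥(S : Subgroup G) ⧸ A.subgroupOf (S : Subgroup G))

open scoped Classical in
/-- The class of an element of `S` modulo `A`. -/
noncomputable def bar (_ : Cls S A) (g : G) : Q :=
  if h : g ∈ (S : Subgroup G) then QuotientGroup.mk ⟨g, h⟩ else 1

include k

theorem bar_eq {g : G} (hg : g ∈ (S : Subgroup G)) :
    k.bar g = QuotientGroup.mk (⟨g, hg⟩ : (S : Subgroup G)) := by simp [bar, hg]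

theorem bar_mul {g h : G} (hg : g ∈ (S : Subgroup G)) (hh : h ∈ (S : Subgroup G)) :
    k.bar (g * h) = k.bar g * k.bar h := by
  rw [k.bar_eq hg, k.bar_eq hh, k.bar_eq (mul_mem hg hh), ← QuotientGroup.mk_mul]; rfl

theorem bar_iff {g h : G} (hg : g ∈ (S : Subgroup G)) (hh : h ∈ (S : Subgroup G)) :
    k.bar g = k.bar h ↔ g⁻¹ * h ∈ A := by
  rw [k.bar_eq hg, k.bar_eq hh, QuotientGroup.eq, mem_subgroupOf]; rfl

theorem bar_one_iff {g : G} (hg : g ∈ (S : Subgroup G)) : k.bar g = 1 ↔ g ∈ A := by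
  rw [k.bar_eq hg, QuotientGroup.eq_one_iff, mem_subgroupOf]

theorem bar_surj (q : Q) : ∃ g ∈ (S : Subgroup G), k.bar g = q := by
  obtain ⟨g, rfl⟩ := QuotientGroup.mk_surjective q
  exact ⟨g, g.2, k.bar_eq g.2⟩

theorem bar_sq (q : Q) : q * q = 1 := by
  obtain ⟨g, hg, rfl⟩ := k.bar_surj q
  rw [← k.bar_mul hg hg, k.bar_one_iff (mul_mem hg hg)]
  exact k.sq g hg

theorem bar_comm (p q : Q) : p * q = q * p := by
  have := k.bar_sq (p * q)
  calc p * q = (p * q)⁻¹ := (inv_eq_of_mul_eq_one_right this).symm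
    _ = q⁻¹ * p⁻¹ := mul_inv_rev p q
    _ = _ := by rw [inv_eq_of_mul_eq_one_right (k.bar_sq p), inv_eq_of_mul_eq_one_right (k.bar_sq q)]

theorem mem_of_bar {H : Subgroup G} (hH : A ≤ H) {g f : G} (hg : g ∈ (S : Subgroup G))
    (hf : f ∈ (S : Subgroup G)) (hfH : f ∈ H) (h : k.bar g = k.bar f) : g ∈ H := by
  have h1 := hH ((k.bar_iff hf hg).1 h.symm)
  simpa using mul_mem hfH h1

theorem map_sub (n : N) : (A.subgroupOf (S : Subgroup G)).map
    ((normalizerMonoidHom (S : Subgroup G) n : (S : Subgroup G) ≃* (S : Subgroup G)).toMonoidHom) =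
    A.subgroupOf (S : Subgroup G) := by
  refine Subgroup.eq_of_le_of_card_ge ?_
    (Nat.card_congr ((A.subgroupOf (S : Subgroup G)).equivMapOfInjective _
      (MulEquiv.injective _)).toEquiv).le
  rintro _ ⟨x, hx, rfl⟩
  exact mem_subgroupOf.2 ((mem_normalizer_iff.1 (k.set.normalizer_le n.2) _).1 (mem_subgroupOf.1 hx))

/-- The action of `N(S)`. -/
noncomputable def act : N →* MulAut Q where
  toFun n := QuotientGroup.congr _ _ (normalizerMonoidHom (S : Subgroup G) n) (k.map_sub n)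
  map_one' := by
    refine MulEquiv.ext fun q => ?_
    induction q using QuotientGroup.induction_on with
    | H z =>
      exact congrArg QuotientGroup.mk (show normalizerMonoidHom (S : Subgroup G) 1 z = z by rw [map_one, MulAut.one_apply])
  map_mul' m n := by
    refine MulEquiv.ext fun q => ?_
    induction q using QuotientGroup.induction_on with
    | H z =>
      exact congrArg QuotientGroup.mk (show normalizerMonoidHom (S : Subgroup G) (m * n) z =
        normalizerMonoidHom (S : Subgroup G) m (normalizerMonoidHom (S : Subgroup G) n z) by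
          rw [map_mul, MulAut.mul_apply])

theorem act_bar (n : N) {g : G} (hg : g ∈ (S : Subgroup G)) :
    k.act n (k.bar g) = k.bar ((n : G) * g * (n : G)⁻¹) := by
  rw [k.bar_eq hg, k.bar_eq ((mem_normalizer_iff.1 n.2 g).1 hg)]
  rfl

theorem act_of_mem {n : N} (hn : (n : G) ∈ (S : Subgroup G)) (q : Q) : k.act n q = q := by
  obtain ⟨g, hg, rfl⟩ := k.bar_surj q
  rw [k.act_bar n hg]
  refine ((k.bar_iff hg (mul_mem (mul_mem hn hg) (inv_mem hn))).2 ?_).symm
  rw [show g⁻¹ * ((n : G) * g * (n : G)⁻¹) = g⁻¹ * mu (n : G) g * g by simp only [mu]; group,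
    ← (k.set.central _ (k.comm _ hn g hg) g⁻¹ (inv_mem hg)).eq, inv_mul_cancel_right]
  exact k.comm _ hn g hg

open scoped Classical in
/-- An orbit of `N(S)`. -/
noncomputable def orb (p : Q) : Finset Q :=
  haveI := Fintype.ofFinite N
  Finset.univ.image fun n : N => k.act n p

theorem mem_orb {p q : Q} : q ∈ k.orb p ↔ ∃ n : N, k.act n p = q := by
  haveI := Fintype.ofFinite N
  simp [orb]

theorem self_mem_orb (p : Q) : p ∈ k.orb p := k.mem_orb.2 ⟨1, by simp⟩

theorem orb_disjoint {p q t : Q} (h1 : t ∈ k.orb p) (h2 : t ∈ k.orb q) : q ∈ k.orb p := by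
  obtain ⟨m, rfl⟩ := k.mem_orb.1 h1
  obtain ⟨n, hn⟩ := k.mem_orb.1 h2
  exact k.mem_orb.2 ⟨n⁻¹ * m, by rw [map_mul, MulAut.mul_apply, ← hn, map_inv, MulAut.inv_apply_self]⟩

theorem image_orb (n : N) {p : Q} [DecidableEq Q] : (k.orb p).image (k.act n) = k.orb p := by
  refine Finset.eq_of_subset_of_card_le (fun t ht => ?_)
    (le_of_eq (Finset.card_image_of_injective _ (k.act n).injective).symm)
  obtain ⟨s, hs, rfl⟩ := Finset.mem_image.1 ht
  obtain ⟨m, rfl⟩ := k.mem_orb.1 hs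
  exact k.mem_orb.2 ⟨n * m, by rw [map_mul, MulAut.mul_apply]⟩

/-- No class is fixed by `N(S)`. -/
theorem fixed_one {p : Q} (hp : ∀ n : N, k.act n p = p) : p = 1 := by
  classical
  by_contra hp1
  obtain ⟨H, -, hH, hmax⟩ := Set.Finite.exists_le_maximal
    (Set.toFinite {H : Subgroup Q | p ∉ H}) (a := ⊥) (by simpa using hp1)
  have hout : ∀ q : Q, q ∉ H → q * p ∈ H := by
    intro q hq
    let H' : Subgroup Q :=
      { carrier := {t | t ∈ H ∨ t * q ∈ H}
        one_mem' := Or.inl (one_mem H)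
        mul_mem' := by
          rintro a b (ha | ha) (hb | hb)
          · exact Or.inl (mul_mem ha hb)
          · exact Or.inr (by rw [mul_assoc]; exact mul_mem ha hb)
          · exact Or.inr (by rw [mul_assoc, k.bar_comm b q, ← mul_assoc]; exact mul_mem ha hb)
          · refine Or.inl ?_
            have := mul_mem ha hb
            rwa [show a * q * (b * q) = a * b * (q * q) by
              rw [mul_assoc a q, ← mul_assoc q b q, k.bar_comm q b]; group, k.bar_sq, mul_one] at this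
        inv_mem' := by
          intro a ha
          rw [inv_eq_of_mul_eq_one_right (k.bar_sq a)]
          exact ha }
    have hle : H ≤ H' := fun t ht => Or.inl ht
    have hqH' : q ∈ H' := Or.inr (by rw [k.bar_sq]; exact one_mem H)
    have hpH' : p ∈ H' := by
      by_contra h
      exact hq (hmax h hle hqH')
    rcases hpH' with h | h
    · exact absurd h hH
    · rwa [k.bar_comm q p]
  obtain ⟨g0, hg0, hg0p⟩ := k.bar_surj p
  let T : Subgroup G :=
    { carrier := {g | g ∈ (S : Subgroup G) ∧ k.bar g ∈ H}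
      one_mem' := ⟨one_mem _, by rw [(k.bar_one_iff (one_mem _)).2 (one_mem A)]; exact one_mem H⟩
      mul_mem' := fun ⟨ha, ha'⟩ ⟨hb, hb'⟩ => ⟨mul_mem ha hb, by rw [k.bar_mul ha hb]; exact mul_mem ha' hb'⟩
      inv_mem' := by
        rintro a ⟨ha, ha'⟩
        refine ⟨inv_mem ha, ?_⟩
        rw [(k.bar_iff (inv_mem ha) ha).2 (by rw [inv_inv]; exact k.sq a ha)]
        exact ha' }
  refine k.set.transfer (T := T) (fun g hg => hg.1)
    (fun a ha => ⟨k.set.le ha, by rw [(k.bar_one_iff (k.set.le ha)).2 ha]; exact one_mem H⟩)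
    (k.set.relIndex_two (fun g hg => hg.1) hg0 (fun h => hH (hg0p ▸ h.2)) fun g hg => ?_) hg0
    (k.sq g0 hg0) fun z hz hzT => ?_
  · by_cases h : k.bar g ∈ H
    · exact Or.inl ⟨hg, h⟩
    · exact Or.inr ⟨mul_mem hg hg0, by rw [k.bar_mul hg hg0, hg0p]; exact hout _ h⟩
  · obtain ⟨n, hn, e⟩ := k.set.fusion hg0 hz
    obtain ⟨m, hm, hmA⟩ := k.fuse_mod hg0 hn (e ▸ hz)
    rw [e] at hmA
    have h1 := (k.bar_iff ((mem_normalizer_iff.1 hm g0).1 hg0) hz).2 hmA
    rw [← k.act_bar ⟨m, hm⟩ hg0, hg0p, hp] at h1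
    exact hH (h1 ▸ hzT.2)

theorem orb_odd (p : Q) : Odd (k.orb p).card := by
  classical
  haveI : Fact (Nat.Prime 2) := ⟨Nat.prime_two⟩
  letI : MulAction N Q := MulAction.compHom Q k.act
  have h1 : (k.orb p).card = (MulAction.stabilizer N p).index := by
    rw [MulAction.index_stabilizer, ← Set.ncard_coe_finset]
    congr 1
    ext q
    rw [Finset.mem_coe, k.mem_orb]
    rfl
  have h2 : (S : Subgroup G).subgroupOf N ≤ MulAction.stabilizer N p := fun n hn =>
    k.act_of_mem (mem_subgroupOf.1 hn) p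
  rw [← Nat.not_even_iff_odd, even_iff_two_dvd, h1]
  exact fun h => S.not_dvd_index ((h.trans (index_dvd_of_le h2)).trans
    (relIndex_dvd_index_of_le le_normalizer))

theorem orb_three {p : Q} (hp : p ≠ 1) : 3 ≤ (k.orb p).card := by
  obtain ⟨j, hj⟩ := k.orb_odd p
  rcases Nat.eq_zero_or_pos j with rfl | h
  · refine absurd (k.fixed_one fun n => ?_) hp
    obtain ⟨t, ht⟩ := Finset.card_eq_one.1 hj
    have h1 := k.self_mem_orb p
    have h2 : k.act n p ∈ k.orb p := k.mem_orb.2 ⟨n, rfl⟩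
    rw [ht, Finset.mem_singleton] at h1 h2
    rw [h2, h1]
  · omega

theorem one_not_mem_orb {p : Q} (hp : p ≠ 1) : (1 : Q) ∉ k.orb p := fun h => by
  obtain ⟨n, hn⟩ := k.mem_orb.1 h
  exact hp ((k.act n).map_eq_one_iff.1 hn)

/-- An orbit of length three is a line. -/
theorem orb_line {p : Q} (h3 : (k.orb p).card = 3) {q r : Q} (hq : q ∈ k.orb p) (hr : r ∈ k.orb p)
    (hqr : q ≠ r) : q * r ∈ k.orb p := by
  classical
  letI : CommGroup Q := { (inferInstance : Group Q) with mul_comm := k.bar_comm }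
  have hfix : ∀ n : N, k.act n (∏ t ∈ k.orb p, t) = ∏ t ∈ k.orb p, t := fun n => by
    rw [map_prod]
    conv_rhs => rw [← k.image_orb n (p := p)]
    rw [Finset.prod_image fun a _ b _ h => (k.act n).injective h]
  have h1 := k.fixed_one hfix
  have hq' : q ∈ (k.orb p).erase r := Finset.mem_erase.2 ⟨hqr, hq⟩
  have hc : (((k.orb p).erase r).erase q).card = 1 := by
    rw [Finset.card_erase_of_mem hq', Finset.card_erase_of_mem hr, h3]
  obtain ⟨t, ht⟩ := Finset.card_eq_one.1 hc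
  rw [← Finset.mul_prod_erase _ _ hr, ← Finset.mul_prod_erase _ _ hq', ht, Finset.prod_singleton,
    ← mul_assoc] at h1
  have htm : t ∈ ((k.orb p).erase r).erase q := by rw [ht]; exact Finset.mem_singleton_self t
  rw [k.bar_comm q r, ← inv_eq_of_mul_eq_one_right (k.bar_sq (r * q)), ← eq_inv_of_mul_eq_one_right h1]
  exact Finset.mem_of_mem_erase (Finset.mem_of_mem_erase htm)

/-- Classes fused into a class with surjective pairing are conjugate in `N(A)`. -/
theorem trans_of_full {v p : G} (hv : Full S A v) (hp : p ∈ (S : Subgroup G))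
    (h : k.bar p ∈ k.orb (k.bar v)) : ∃ n ∈ normalizer (A : Set G), n * v * n⁻¹ = p := by
  obtain ⟨hvS, -, -, hsurj⟩ := hv
  obtain ⟨m, hm⟩ := k.mem_orb.1 h
  have hmS := mem_normalizer_iff.1 m.2
  rw [k.act_bar m hvS, k.bar_iff ((hmS v).1 hvS) hp] at hm
  have hmA := k.set.normalizer_le m.2
  obtain ⟨g, hg, hge⟩ := hsurj _ ((mem_normalizer_iff''.1 hmA _).1 hm)
  refine ⟨(m : G) * g, mul_mem hmA (k.set.normalizer_le (le_normalizer hg)), ?_⟩
  rw [show (m : G) * g * v * ((m : G) * g)⁻¹ = (m : G) * (mu g v * v) * (m : G)⁻¹ by simp only [mu]; group,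
    hge]
  calc (m : G) * ((m : G)⁻¹ * (((m : G) * v * (m : G)⁻¹)⁻¹ * p) * (m : G) * v) * (m : G)⁻¹
      = ((m : G) * v * (m : G)⁻¹)⁻¹ * p * ((m : G) * v * (m : G)⁻¹) := by group
    _ = _ := by
      rw [(k.set.central _ hm ((m : G) * v * (m : G)⁻¹) ((hmS v).1 hvS)).eq, mul_inv_cancel_left]

theorem sq_of_orb {v p : G} (hv : v ∈ (S : Subgroup G)) (hv2 : v * v = 1) (hp : p ∈ (S : Subgroup G))
    (h : k.bar p ∈ k.orb (k.bar v)) : p * p = 1 := by
  obtain ⟨m, hm⟩ := k.mem_orb.1 h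
  have hmv := (mem_normalizer_iff.1 m.2 v).1 hv
  rw [k.act_bar m hv, k.bar_iff hmv hp] at hm
  rw [k.sq_congr hmv hm,
    show (m : G) * v * (m : G)⁻¹ * ((m : G) * v * (m : G)⁻¹) = (m : G) * (v * v) * (m : G)⁻¹ by group,
    hv2, mul_one, mul_inv_cancel]

/-- The centraliser of a full involution is not `A × ⟨u⟩`. -/
theorem exists_second {u : G} (hu : Full S A u) :
    ∃ e ∈ k.cen u, e ∉ A ∧ u * e ∉ A := by
  classical
  obtain ⟨huS, hu2, huA, hsurj⟩ := hu
  by_contra h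
  push Not at h
  haveI := Fintype.ofFinite Q
  haveI := Fintype.ofFinite A
  choose gg hggS hgg using fun a : A => hsurj a a.2
  have hsurjQ : Function.Surjective
      fun x : A × Bool => k.bar (gg x.1) * (if x.2 then k.bar u else 1) := by
    intro q
    obtain ⟨g, hg, rfl⟩ := k.bar_surj q
    set a : A := ⟨mu g u, k.comm g hg u huS⟩
    have hf : gg a * g ∈ k.cen u := k.mem_cen.2 ⟨mul_mem (hggS a) hg, mu_eq_one_iff.1 (by
      rw [k.mu_mul (hggS a) hg huS, hgg a]; exact k.set.sq _ a.2)⟩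
    by_cases hfA : gg a * g ∈ A
    · refine ⟨(a, false), ?_⟩
      have h1 := (k.bar_one_iff hf.1).2 hfA
      rw [k.bar_mul (hggS a) hg] at h1
      show k.bar (gg a) * 1 = k.bar g
      rw [mul_one, eq_inv_of_mul_eq_one_left h1, inv_eq_of_mul_eq_one_right (k.bar_sq _)]
    · refine ⟨(a, true), ?_⟩
      have h2 := h _ hf hfA
      have h1 := (k.bar_one_iff (mul_mem huS hf.1)).2 h2
      rw [k.bar_mul huS hf.1, k.bar_mul (hggS a) hg] at h1
      show k.bar (gg a) * k.bar u = k.bar g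
      rw [eq_inv_of_mul_eq_one_left h1, inv_eq_of_mul_eq_one_right (k.bar_sq _), ← mul_assoc, k.bar_sq,
        one_mul]
  have hle := Fintype.card_le_of_surjective _ hsurjQ
  rw [Fintype.card_prod, Fintype.card_bool, ← Nat.card_eq_fintype_card (α := A), k.set.card] at hle
  have hp1 : k.bar u ≠ 1 := fun h' => huA ((k.bar_one_iff huS).1 h')
  have heven : 2 ∣ Fintype.card Q := by
    have h2 := orderOf_eq_prime (p := 2) (by rw [pow_two]; exact k.bar_sq (k.bar u)) hp1
    have h3 : orderOf (k.bar u) ∣ Fintype.card Q := orderOf_dvd_card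
    rwa [h2] at h3
  have hone : ((Finset.univ : Finset Q).erase 1).card + 1 = Fintype.card Q := by
    rw [Finset.card_erase_add_one (Finset.mem_univ _), Finset.card_univ]
  have hO : ∀ p : Q, p ≠ 1 → k.orb p ⊆ (Finset.univ : Finset Q).erase 1 := fun p hp t ht =>
    Finset.mem_erase.2 ⟨fun e => k.one_not_mem_orb hp (e ▸ ht), Finset.mem_univ t⟩
  have hdis : ∀ p q : Q, q ∉ k.orb p → Disjoint (k.orb p) (k.orb q) := fun p q hq =>
    Finset.disjoint_left.2 fun t h1 h2 => hq (k.orb_disjoint h1 h2)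
  have hall : ∀ q : Q, q ≠ 1 → q ∈ k.orb (k.bar u) := by
    intro q hq
    by_contra hqo
    set O := k.orb (k.bar u) ∪ k.orb q with hOdef
    have hOs : O ⊆ (Finset.univ : Finset Q).erase 1 := Finset.union_subset (hO _ hp1) (hO _ hq)
    have hOc : O.card = (k.orb (k.bar u)).card + (k.orb q).card :=
      Finset.card_union_of_disjoint (hdis _ _ hqo)
    have h3 := k.orb_three hp1
    have h4 := k.orb_three hq
    by_cases hr : O = (Finset.univ : Finset Q).erase 1
    · have o1 := Nat.odd_iff.1 (k.orb_odd (k.bar u))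
      have o2 := Nat.odd_iff.1 (k.orb_odd q)
      have := congrArg Finset.card hr
      omega
    · obtain ⟨r, hr1, hr2⟩ := Finset.exists_of_ssubset (hOs.ssubset_of_ne hr)
      rw [hOdef, Finset.mem_union] at hr2
      push Not at hr2
      have hr1' := (Finset.mem_erase.1 hr1).1
      have hd : Disjoint O (k.orb r) :=
        Finset.disjoint_union_left.2 ⟨hdis _ _ hr2.1, hdis _ _ hr2.2⟩
      have := Finset.card_le_card (Finset.union_subset hOs (hO r hr1'))
      rw [Finset.card_union_of_disjoint hd] at this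
      have h5 := k.orb_three hr1'
      omega
  have hsq : ∀ g ∈ (S : Subgroup G), g * g = 1 := fun g hg => by
    by_cases hgA : g ∈ A
    · exact k.set.sq g hgA
    · exact k.sq_of_orb huS hu2 hg (hall _ fun h' => hgA ((k.bar_one_iff hg).1 h'))
  obtain ⟨g, hg, hgu⟩ := k.exists_not_cen huS hu2 huA
  refine hgu (k.mem_cen.2 ⟨hg, ?_⟩)
  show g * u = u * g
  rw [← inv_eq_of_mul_eq_one_right (hsq _ (mul_mem hg huS)), mul_inv_rev,
    inv_eq_of_mul_eq_one_right (hsq g hg), inv_eq_of_mul_eq_one_right hu2]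

/-- Case beta gives the frame. -/
theorem exists_frame : ∃ E F, Frame S A E F := by
  classical
  obtain ⟨u, hu⟩ := k.exists_full
  obtain ⟨e, he, heA, hueA⟩ := k.exists_second hu
  have huF := hu
  obtain ⟨huS, hu2, huA, hsurj⟩ := hu
  set E := k.cen u with hE
  have huE : u ∈ E := k.mem_cen.2 ⟨huS, Commute.refl u⟩
  have heS := he.1
  have hueE := mul_mem huE he
  have hnotE : ∀ {g f : G}, g ∈ (S : Subgroup G) → f ∈ E → f ∉ A → g ∉ E → mu g f ≠ 1 :=
    fun {g f} hg hf hfA hgE h => hgE (hE ▸ k.cen_eq huS hu2 huA hf hfA ▸ k.mem_cen.2 ⟨hg, mu_eq_one_iff.1 h⟩)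
  have hpair : ∀ g ∈ (S : Subgroup G), g ∉ E → mu g u ≠ 1 ∧ mu g e ≠ 1 ∧ mu g u ≠ mu g e := by
    refine fun g hg hgE => ⟨hnotE hg huE huA hgE, hnotE hg he heA hgE, fun h => hnotE hg hueE hueA hgE ?_⟩
    rw [k.mu_mul_right hg huS heS, h, k.set.sq _ (k.comm g hg e heS)]
  have hval : ∀ g ∈ (S : Subgroup G), g ∉ E → ∀ a ∈ A,
      ∃ f, (f = 1 ∨ f = u ∨ f = e ∨ f = u * e) ∧ mu g f = a := by
    intro g hg hgE a ha
    obtain ⟨h1, h2, h3⟩ := hpair g hg hgE
    rcases k.set.four (k.comm g hg u huS) (k.comm g hg e heS) h1 h2 h3 ha with h | h | h | h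
    · exact ⟨1, Or.inl rfl, by rw [h, mu_eq_one_iff]; exact Commute.one_right g⟩
    · exact ⟨u, Or.inr (Or.inl rfl), h.symm⟩
    · exact ⟨e, Or.inr (Or.inr (Or.inl rfl)), h.symm⟩
    · exact ⟨u * e, Or.inr (Or.inr (Or.inr rfl)), by rw [k.mu_mul_right hg huS heS, h]⟩
  have hfourE : ∀ {f : G}, f = 1 ∨ f = u ∨ f = e ∨ f = u * e → f ∈ E := by
    rintro f (rfl | rfl | rfl | rfl)
    exacts [one_mem E, huE, he, hueE]
  obtain ⟨g0, hg0, hg0E⟩ := k.exists_not_cen huS hu2 huA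
  -- the classes in `E`
  set U : Finset Q := {k.bar u, k.bar e, k.bar (u * e)} with hUdef
  have hEU : ∀ f ∈ E, f ∉ A → k.bar f ∈ U := by
    intro f hf hfA
    obtain ⟨t, ht, hte⟩ := hval g0 hg0 hg0E _ (k.comm g0 hg0 f hf.1)
    have htE := hfourE ht
    have hfa : f⁻¹ * t ∈ A := by
      by_contra h
      refine hnotE hg0 (mul_mem (inv_mem hf) htE) h hg0E ?_
      rw [k.mu_mul_right hg0 (inv_mem hf.1) htE.1,
        show f⁻¹ = f from inv_eq_of_mul_eq_one_right (k.cen_sq huS hu2 huA hf), hte,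
        k.set.sq _ (k.comm g0 hg0 f hf.1)]
    rw [(k.bar_iff hf.1 htE.1).2 hfa]
    rcases ht with rfl | rfl | rfl | rfl
    · exact absurd (by simpa using hfa) hfA
    all_goals simp [hUdef]
  -- the three outer classes
  have wit : ∀ a ∈ A, ∃ w ∈ (S : Subgroup G), (a ≠ 1 → w * w = 1 ∧ mu w u = a) := by
    intro a ha
    by_cases ha1 : a = 1
    · exact ⟨1, one_mem _, fun h => absurd ha1 h⟩
    obtain ⟨g, hg, hge⟩ := hsurj a ha
    have hgE : g ∉ E := fun h => ha1 (by rw [← hge]; exact mu_eq_one_iff.2 (k.mem_cen.1 h).2)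
    obtain ⟨f, hf, hfe⟩ := hval g hg hgE _ (k.sq g hg)
    have hfE := hfourE hf
    refine ⟨g * f, mul_mem hg hfE.1, fun _ => ⟨?_, ?_⟩⟩
    · rw [k.sq_mul hg hfE.1, k.cen_sq huS hu2 huA hfE, mul_one, hfe, k.set.sq _ (k.sq g hg)]
    · rw [k.mu_mul hg hfE.1 huS, hge, mu_eq_one_iff.2 (k.mem_cen.1 hfE).2, mul_one]
  obtain ⟨a, ha, ha1⟩ := k.set.exists_ne_one
  obtain ⟨b, hb, hb1, hba⟩ := k.set.exists_third ha
  have hc1 : a * b ≠ 1 := fun h => hba ((eq_inv_of_mul_eq_one_right h).trans (k.set.inv_eq ha))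
  obtain ⟨wa, hwaS, hwa⟩ := wit a ha
  obtain ⟨wb, hwbS, hwb⟩ := wit b hb
  obtain ⟨wc, hwcS, hwc⟩ := wit _ (mul_mem ha hb)
  obtain ⟨hwa2, hwau⟩ := hwa ha1
  obtain ⟨hwb2, hwbu⟩ := hwb hb1
  obtain ⟨hwc2, hwcu⟩ := hwc hc1
  set W : Finset Q := {k.bar wa, k.bar wb, k.bar wc} with hWdef
  have hout : ∀ {w : G}, mu w u ≠ 1 → w ∉ E := fun h h' => h (mu_eq_one_iff.2 (k.mem_cen.1 h').2)
  have huniq : ∀ {v w : G}, v ∈ (S : Subgroup G) → w ∈ (S : Subgroup G) → v * v = 1 → w * w = 1 →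
      mu v u ≠ 1 → mu v u = mu w u → k.bar v = k.bar w := by
    intro v w hv hw hv2 hw2 hne heq
    rw [k.bar_iff hv hw, inv_eq_of_mul_eq_one_right hv2]
    have hvw : v * w ∈ E := k.mem_cen.2 ⟨mul_mem hv hw, mu_eq_one_iff.1 (by
      rw [k.mu_mul hv hw huS, heq, k.set.sq _ (k.comm w hw u huS)])⟩
    by_contra h
    refine hnotE hv hvw h (hout hne) ?_
    have e1 := k.sq_mul hv (mul_mem hv hw)
    rw [hv2, k.cen_sq huS hu2 huA hvw, ← mul_assoc v v w, hv2, one_mul, one_mul, one_mul, hw2] at e1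
    exact e1.symm
  have hcongr : ∀ {v w : G}, v ∈ (S : Subgroup G) → w ∈ (S : Subgroup G) → k.bar v = k.bar w →
      mu v u = mu w u := by
    intro v w hv hw h
    have h1 := (k.bar_iff hv hw).1 h
    rw [show w = v * (v⁻¹ * w) by group, k.mu_mul hv (k.set.le h1) huS,
      mu_eq_one_iff.2 (k.set.central _ h1 u huS), mul_one]
  have hwaA : wa ∉ A := fun h => hout (by rw [hwau]; exact ha1) (k.A_le_cen huS h)
  have hwbA : wb ∉ A := fun h => hout (by rw [hwbu]; exact hb1) (k.A_le_cen huS h)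
  have hwcA : wc ∉ A := fun h => hout (by rw [hwcu]; exact hc1) (k.A_le_cen huS h)
  have hUne : ∀ q ∈ U, ∃ f ∈ E, f ∉ A ∧ k.bar f = q := by
    intro q hq
    simp only [hUdef, Finset.mem_insert, Finset.mem_singleton] at hq
    rcases hq with rfl | rfl | rfl
    exacts [⟨u, huE, huA, rfl⟩, ⟨e, he, heA, rfl⟩, ⟨u * e, hueE, hueA, rfl⟩]
  have hWne : ∀ q ∈ W, ∃ w ∈ (S : Subgroup G), w * w = 1 ∧ w ∉ E ∧ w ∉ A ∧ k.bar w = q := by
    intro q hq
    simp only [hWdef, Finset.mem_insert, Finset.mem_singleton] at hq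
    rcases hq with rfl | rfl | rfl
    exacts [⟨wa, hwaS, hwa2, hout (by rw [hwau]; exact ha1), hwaA, rfl⟩,
      ⟨wb, hwbS, hwb2, hout (by rw [hwbu]; exact hb1), hwbA, rfl⟩,
      ⟨wc, hwcS, hwc2, hout (by rw [hwcu]; exact hc1), hwcA, rfl⟩]
  have hUW : Disjoint U W := Finset.disjoint_left.2 fun q h1 h2 => by
    obtain ⟨f, hf, -, rfl⟩ := hUne q h1
    obtain ⟨w, hw, -, hwE, -, e1⟩ := hWne _ h2
    exact hwE (k.mem_of_bar (k.A_le_cen huS) hw hf.1 hf e1)
  have hU3 : U.card = 3 := by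
    have h1 : k.bar u ≠ k.bar e := fun h => hueA (by
      have := (k.bar_iff huS heS).1 h
      rwa [inv_eq_of_mul_eq_one_right hu2] at this)
    have h2 : k.bar u ≠ k.bar (u * e) := fun h => heA (by
      simpa using (k.bar_iff huS hueE.1).1 h)
    have h3 : k.bar e ≠ k.bar (u * e) := fun h => by
      rw [k.bar_mul huS heS, right_eq_mul] at h
      exact huA ((k.bar_one_iff huS).1 h)
    rw [hUdef, Finset.card_insert_of_notMem (by simp [h1, h2]), Finset.card_pair h3]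
  have hW3 : W.card = 3 := by
    have h1 : k.bar wa ≠ k.bar wb := fun h => hba (by
      have := hcongr hwaS hwbS h
      rw [hwau, hwbu] at this
      exact this.symm)
    have h2 : k.bar wa ≠ k.bar wc := fun h => hb1 (by
      have := hcongr hwaS hwcS h
      rw [hwau, hwcu] at this
      exact mul_eq_left.1 this.symm)
    have h3 : k.bar wb ≠ k.bar wc := fun h => ha1 (by
      have := hcongr hwbS hwcS h
      rw [hwbu, hwcu] at this
      exact mul_eq_right.1 this.symm)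
    rw [hWdef, Finset.card_insert_of_notMem (by simp [h1, h2]), Finset.card_pair h3]
  -- involution classes
  have hinvol : ∀ p ∈ (S : Subgroup G), p * p = 1 → p ∉ A → k.bar p ∈ U ∪ W := by
    intro p hp hp2 hpA
    by_cases hpE : p ∈ E
    · exact Finset.mem_union_left _ (hEU p hpE hpA)
    refine Finset.mem_union_right _ ?_
    have h1 : mu p u ≠ 1 := fun h => hpE (k.mem_cen.2 ⟨hp, mu_eq_one_iff.1 h⟩)
    simp only [hWdef, Finset.mem_insert, Finset.mem_singleton]
    rcases k.set.four ha hb ha1 hb1 hba.symm (k.comm p hp u huS) with h | h | h | h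
    · exact absurd h h1
    · exact Or.inl (huniq hp hwaS hp2 hwa2 h1 (h.trans hwau.symm))
    · exact Or.inr (Or.inl (huniq hp hwbS hp2 hwb2 h1 (h.trans hwbu.symm)))
    · exact Or.inr (Or.inr (huniq hp hwcS hp2 hwc2 h1 (h.trans hwcu.symm)))
  have hrep : ∀ q ∈ U ∪ W, ∃ p ∈ (S : Subgroup G), p * p = 1 ∧ p ∉ A ∧ k.bar p = q := by
    intro q hq
    rcases Finset.mem_union.1 hq with h | h
    · obtain ⟨f, hf, hfA, e1⟩ := hUne q h
      exact ⟨f, hf.1, k.cen_sq huS hu2 huA hf, hfA, e1⟩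
    · obtain ⟨w, hw, hw2, -, hwA, e1⟩ := hWne q h
      exact ⟨w, hw, hw2, hwA, e1⟩
  have hstable : ∀ (n : N) (q : Q), q ∈ U ∪ W → k.act n q ∈ U ∪ W := by
    intro n q hq
    obtain ⟨p, hp, hp2, hpA, rfl⟩ := hrep q hq
    rw [k.act_bar n hp]
    refine hinvol _ ((mem_normalizer_iff.1 n.2 p).1 hp) ?_ fun h =>
      hpA ((mem_normalizer_iff.1 (k.set.normalizer_le n.2) p).2 h)
    rw [show (n : G) * p * (n : G)⁻¹ * ((n : G) * p * (n : G)⁻¹) = (n : G) * (p * p) * (n : G)⁻¹ by group,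
      hp2, mul_one, mul_inv_cancel]
  have hne1 : ∀ q ∈ U ∪ W, q ≠ 1 := fun q hq => by
    obtain ⟨p, hp, -, hpA, rfl⟩ := hrep q hq
    exact fun h => hpA ((k.bar_one_iff hp).1 h)
  have hcom : ∀ p ∈ (S : Subgroup G), ∀ q ∈ (S : Subgroup G), p * p = 1 → q * q = 1 →
      k.bar p * k.bar q ∈ U ∪ W → Commute p q := by
    intro p hp q hq hp2 hq2 h
    obtain ⟨t, ht, ht2, -, e1⟩ := hrep _ h
    rw [← k.bar_mul hp hq, k.bar_iff ht (mul_mem hp hq)] at e1
    have h2 := k.sq_congr ht e1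
    rw [ht2] at h2
    show p * q = q * p
    rw [← inv_eq_of_mul_eq_one_right h2, mul_inv_rev, inv_eq_of_mul_eq_one_right hp2,
      inv_eq_of_mul_eq_one_right hq2]
  -- the orbit of `u` is a line
  have huU : k.bar u ∈ U := by simp [hUdef]
  set O := k.orb (k.bar u) with hOdef
  have hOZ : O ⊆ U ∪ W := fun t ht => by
    obtain ⟨n, rfl⟩ := k.mem_orb.1 ht
    exact hstable n _ (Finset.mem_union_left _ huU)
  have hZ6 : (U ∪ W).card = 6 := by rw [Finset.card_union_of_disjoint hUW, hU3, hW3]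
  have hO3 : O.card = 3 := by
    have h1 := k.orb_three (hne1 _ (Finset.mem_union_left _ huU))
    have h2 := Finset.card_le_card hOZ
    obtain ⟨j, hj⟩ := k.orb_odd (k.bar u)
    rw [← hOdef] at h1 hj
    by_contra hne
    have h5 : ((U ∪ W) \ O).card = 1 := by
      rw [Finset.card_sdiff_of_subset hOZ]; omega
    obtain ⟨t, ht⟩ := Finset.card_eq_one.1 h5
    have htm : t ∈ (U ∪ W) \ O := by rw [ht]; exact Finset.mem_singleton_self t
    refine hne1 t (Finset.mem_sdiff.1 htm).1 (k.fixed_one fun n => ?_)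
    have : k.act n t ∈ (U ∪ W) \ O := by
      refine Finset.mem_sdiff.2 ⟨hstable n t (Finset.mem_sdiff.1 htm).1, fun h => (Finset.mem_sdiff.1 htm).2 ?_⟩
      rw [hOdef, ← k.image_orb n (p := k.bar u)] at h
      obtain ⟨s, hs, hse⟩ := Finset.mem_image.1 h
      exact (k.act n).injective hse ▸ hs
    rw [ht, Finset.mem_singleton] at this
    exact this
  have hOU : O = U := by
    refine Finset.eq_of_subset_of_card_le (fun t ht => ?_) (by rw [hO3, hU3])
    by_cases htu : t = k.bar u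
    · rw [htu]; exact huU
    obtain ⟨p, hp, hp2, hpA, rfl⟩ := hrep t (hOZ ht)
    have h1 := hOZ (k.orb_line hO3 (k.self_mem_orb _) ht (Ne.symm htu))
    exact hEU p (k.mem_cen.2 ⟨hp, (hcom u huS p hp hu2 hp2 h1).symm⟩) hpA
  -- the orbit of `wa`
  have hwaW : k.bar wa ∈ W := by simp [hWdef]
  have hWorb : k.orb (k.bar wa) = W := by
    refine Finset.eq_of_subset_of_card_le (fun t ht => ?_) ?_
    · obtain ⟨n, rfl⟩ := k.mem_orb.1 ht
      refine (Finset.mem_union.1 (hstable n _ (Finset.mem_union_right _ hwaW))).resolve_left fun h => ?_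
      rw [← hOU] at h
      have hw : k.bar wa ∈ O := k.orb_disjoint h (k.mem_orb.2 ⟨n, rfl⟩)
      rw [hOU] at hw
      exact Finset.disjoint_left.1 hUW hw hwaW
    · rw [hW3]; exact k.orb_three (hne1 _ (Finset.mem_union_right _ hwaW))
  have hWline : ∀ q ∈ W, ∀ r ∈ W, q ≠ r → q * r ∈ W := fun q hq r hr hqr => by
    rw [← hWorb] at hq hr ⊢
    exact k.orb_line (by rw [hWorb, hW3]) hq hr hqr
  set F := k.cen wa with hF
  have hWF : ∀ p ∈ (S : Subgroup G), p * p = 1 → k.bar p ∈ W → p ∈ F := by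
    intro p hp hp2 hpW
    refine k.mem_cen.2 ⟨hp, ?_⟩
    by_cases h : k.bar wa = k.bar p
    · have h1 := (k.bar_iff hwaS hp).1 h
      have : Commute (wa⁻¹ * p) wa := k.set.central _ h1 wa hwaS
      have h2 := (Commute.refl wa).mul_left this
      rwa [mul_inv_cancel_left] at h2
    · exact (hcom wa hwaS p hp hwa2 hp2 (Finset.mem_union_right _ (hWline _ hwaW _ hpW h))).symm
  have hapart : ∀ p ∈ E, p ∉ A → ∀ q ∈ F, q ∉ A → ¬ Commute p q := by
    intro p hp hpA q hq hqA hc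
    have h1 : q ∈ k.cen p := k.mem_cen.2 ⟨hq.1, hc.symm⟩
    rw [k.cen_eq huS hu2 huA hp hpA] at h1
    have h2 : k.cen q = k.cen wa := k.cen_eq hwaS hwa2 hwaA hq hqA
    rw [k.cen_eq huS hu2 huA h1 hqA] at h2
    exact hout (by rw [hwau]; exact ha1) (hE ▸ h2 ▸ k.mem_cen.2 ⟨hwaS, Commute.refl wa⟩)
  have hFW : ∀ q ∈ F, q ∉ A → k.bar q ∈ W := fun q hq hqA =>
    (Finset.mem_union.1 (hinvol q hq.1 (k.cen_sq hwaS hwa2 hwaA hq) hqA)).resolve_left fun h => by
      obtain ⟨f, hf, hfA, e1⟩ := hUne _ h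
      exact hapart q (k.mem_of_bar (k.A_le_cen huS) hq.1 hf.1 hf e1.symm) hqA q hq hqA (Commute.refl q)
  have hfullW : Full S A wa := by
    refine ⟨hwaS, hwa2, hwaA, fun z hz => ?_⟩
    obtain ⟨h1, h2, h3⟩ := hpair wa hwaS (hout (by rw [hwau]; exact ha1))
    rcases k.set.four (k.comm wa hwaS u huS) (k.comm wa hwaS e heS) h1 h2 h3 hz with h | h | h | h
    · exact ⟨1, one_mem _, by rw [h, mu_eq_one_iff]; exact Commute.one_left wa⟩
    · exact ⟨u, huS, by rw [k.mu_comm hwaS huS, h]⟩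
    · exact ⟨e, heS, by rw [k.mu_comm hwaS heS, h]⟩
    · exact ⟨u * e, hueE.1, by rw [k.mu_mul huS heS hwaS, k.mu_comm hwaS huS, k.mu_comm hwaS heS, h]⟩
  have hclosed : ∀ (H : Subgroup G), A ≤ H → H ≤ (S : Subgroup G) → ∀ v : G,
      (∀ p ∈ H, p ∉ A → k.bar p ∈ k.orb (k.bar v)) →
      (∀ t ∈ k.orb (k.bar v), ∃ f ∈ H, k.bar f = t) →
      ∀ n ∈ normalizer (A : Set G), ∀ p ∈ H, n * p * n⁻¹ ∈ (S : Subgroup G) → n * p * n⁻¹ ∈ H := by
    intro H hAH hHS v hin hsur n hn p hp hnp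
    by_cases hpA : p ∈ A
    · exact hAH ((mem_normalizer_iff.1 hn p).1 hpA)
    obtain ⟨m, hm, hmA⟩ := k.fuse_mod (hHS hp) hn hnp
    have h1 := (k.bar_iff ((mem_normalizer_iff.1 hm p).1 (hHS hp)) hnp).2 hmA
    rw [← k.act_bar ⟨m, hm⟩ (hHS hp)] at h1
    have h2 : k.bar (n * p * n⁻¹) ∈ k.orb (k.bar v) := by
      obtain ⟨l, hl⟩ := k.mem_orb.1 (hin p hp hpA)
      rw [← h1, ← hl]
      exact k.mem_orb.2 ⟨⟨m, hm⟩ * l, by rw [map_mul, MulAut.mul_apply]⟩
    obtain ⟨f, hf, hfe⟩ := hsur _ h2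
    exact k.mem_of_bar hAH hnp (hHS hf) hf hfe.symm
  have htrans : ∀ (v : G), Full S A v → ∀ p ∈ (S : Subgroup G), ∀ q ∈ (S : Subgroup G),
      k.bar p ∈ k.orb (k.bar v) → k.bar q ∈ k.orb (k.bar v) →
      ∃ n ∈ normalizer (A : Set G), n * p * n⁻¹ = q := by
    intro v hv p hp q hq hpo hqo
    obtain ⟨n1, hn1, rfl⟩ := k.trans_of_full hv hp hpo
    obtain ⟨n2, hn2, rfl⟩ := k.trans_of_full hv hq hqo
    exact ⟨n2 * n1⁻¹, mul_mem hn2 (inv_mem hn1), by group⟩
  refine ⟨E, F, ⟨k.set, fun p hp => hp.1, fun p hp => hp.1, k.A_le_cen huS, k.A_le_cen hwaS,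
    fun p hp => k.cen_sq huS hu2 huA hp, fun p hp => k.cen_sq hwaS hwa2 hwaA hp, ⟨u, huE, huA⟩,
    ⟨wa, k.mem_cen.2 ⟨hwaS, Commute.refl wa⟩, hwaA⟩, ?_, hapart, ?_, ?_, ?_, ?_⟩⟩
  · intro p hp hp2
    by_cases hpA : p ∈ A
    · exact Or.inl (k.A_le_cen huS hpA)
    rcases Finset.mem_union.1 (hinvol p hp hp2 hpA) with h | h
    · obtain ⟨f, hf, -, e1⟩ := hUne _ h
      exact Or.inl (k.mem_of_bar (k.A_le_cen huS) hp hf.1 hf e1.symm)
    · exact Or.inr (hWF p hp hp2 h)
  · exact fun p hp hpA q hq hqA =>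
      htrans u huF p hp.1 q hq.1 (hOdef ▸ hOU ▸ hEU p hp hpA) (hOdef ▸ hOU ▸ hEU q hq hqA)
  · exact fun p hp hpA q hq hqA => htrans wa hfullW p hp.1 q hq.1
      (by rw [hWorb]; exact hFW p hp hpA) (by rw [hWorb]; exact hFW q hq hqA)
  · refine hclosed E (k.A_le_cen huS) (fun p hp => hp.1) u (fun p hp hpA => hOdef ▸ hOU ▸ hEU p hp hpA)
      fun t ht => ?_
    rw [← hOdef, hOU] at ht
    obtain ⟨f, hf, -, e1⟩ := hUne t ht
    exact ⟨f, hf, e1⟩
  · refine hclosed F (k.A_le_cen hwaS) (fun p hp => hp.1) wa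
      (fun p hp hpA => by rw [hWorb]; exact hFW p hp hpA) fun t ht => ?_
    rw [hWorb] at ht
    obtain ⟨w, hw, hw2, -, -, e1⟩ := hWne t ht
    exact ⟨w, hWF w hw hw2 (e1.symm ▸ ht), e1⟩

end Cls

theorem Setting.exists_frame {S : Sylow 2 G} {A : Subgroup G} (s : Setting S A) :
    ∃ E F, Frame S A E F := by
  haveI : (A.subgroupOf (S : Subgroup G)).Normal := ⟨fun a ha g => mem_subgroupOf.2 (by
    rw [coe_mul, coe_mul, ← (s.central _ (mem_subgroupOf.1 ha) _ g.2).eq, coe_inv, mul_inv_cancel_right]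
    exact mem_subgroupOf.1 ha)⟩
  exact s.cls.exists_frame

end CfsgLib.Goldschmidt.RankTwo
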