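import Cfsg.Agent.Lib.Invol.AschCrit.ExtremalTransferProof
import Cfsg.Agent.Lib.Techniques.Basic
import Cfsg.Prelude.Def_TwoFusion

/-!
Owner: helper18.  Strongly closed four-groups (S1169, gap G1): setting, fusion, transfer.
See `notes/goldschmidt_G1_helper18.md`.
-/

set_option autoImplicit false
set_option linter.unusedSectionVars false
set_option linter.style.haveILetI false

namespace CfsgLib.Goldschmidt.RankTwo

open Subgroup

variable {G : Type*} [Group G]

/-- All that is used about a component of type `L2(q)` in the centraliser of a coset `u A`. -/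
structure BadCoset (S : Sylow 2 G) (A : Subgroup G) (u : G) : Prop where
  squares : ∀ P : Subgroup G, P ≤ (S : Subgroup G) → (∀ x ∈ P, Commute x u) →
    closure ((fun x => x * x) '' (P : Set G)) ⊓ A = ⊥
  exists_rep : ∃ v, u⁻¹ * v ∈ A ∧
    (∀ a ∈ A, ∀ b ∈ A, a ≠ 1 → b ≠ 1 →
      ∃ r ∈ normalizer (A : Set G), Commute r v ∧ r * a * r⁻¹ = b) ∧
    ∀ z ∈ A, z ≠ 1 → ∀ d, IsConj z d → Commute d v →
      Nat.card {d' : G // IsConj z d' ∧ Commute d' v} <
        3 * Nat.card {d' : G // IsConj z d' ∧ Commute d' v ∧ Odd (orderOf (d * d'))}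

/-- A central strongly closed four-group, with every outer involution coset bad. -/
structure Setting (S : Sylow 2 G) (A : Subgroup G) : Prop where
  no_two : ¬ ∃ N : Subgroup G, N.Normal ∧ N.index = 2
  card : Nat.card A = 4
  sq : ∀ a ∈ A, a * a = 1
  central : ∀ a ∈ A, ∀ s ∈ (S : Subgroup G), Commute a s
  closed : Cfsg.IsStronglyClosed A (S : Subgroup G)
  trans : ∀ a ∈ A, ∀ b ∈ A, a ≠ 1 → b ≠ 1 → ∃ n ∈ normalizer (A : Set G), n * a * n⁻¹ = b
  core : ∀ z ∈ (S : Subgroup G), z * z = 1 → (∀ s ∈ (S : Subgroup G), Commute z s) → z ∈ A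
  out : ∃ u ∈ (S : Subgroup G), u * u = 1 ∧ u ∉ A
  bad : ∀ u ∈ (S : Subgroup G), u * u = 1 → u ∉ A → BadCoset S A u

section Tools

variable [Finite G]

theorem mem_normalizer_of_map {H : Subgroup G} {g : G} (h : ∀ x ∈ H, g * x * g⁻¹ ∈ H) :
    g ∈ normalizer (H : Set G) := by
  have hm : H.map (MulAut.conj g).toMonoidHom = H :=
    Subgroup.eq_of_le_of_card_ge (by rintro _ ⟨x, hx, rfl⟩; exact h x hx)
      (Nat.card_congr (H.equivMapOfInjective _ (MulAut.conj g).injective).toEquiv).le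
  refine mem_normalizer_iff.2 fun x => ⟨h x, fun hx => ?_⟩
  obtain ⟨y, hy, e⟩ := hm.ge hx
  have e' : g * y * g⁻¹ = g * x * g⁻¹ := e
  exact (mul_left_cancel (mul_right_cancel e')) ▸ hy

/-- Sylow's theorem inside `K`. -/
theorem exists_conj_le {K P Q : Subgroup G} (hP : IsPGroup 2 P) (hPK : P ≤ K) (hQ : IsPGroup 2 Q)
    (hQK : Q ≤ K) : ∃ R : Subgroup G, IsPGroup 2 R ∧ P ≤ R ∧ R ≤ K ∧
      ∃ k ∈ K, ∀ q ∈ Q, k * q * k⁻¹ ∈ R := by
  haveI : Fact (Nat.Prime 2) := ⟨Nat.prime_two⟩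
  obtain ⟨P', hP'⟩ := (hP.comap_of_injective K.subtype K.subtype_injective).exists_le_sylow
  obtain ⟨Q', hQ'⟩ := (hQ.comap_of_injective K.subtype K.subtype_injective).exists_le_sylow
  obtain ⟨k, hk⟩ := MulAction.exists_smul_eq K Q' P'
  refine ⟨(P' : Subgroup K).map K.subtype, P'.2.map _,
    fun x hx => ⟨⟨x, hPK hx⟩, hP' (mem_subgroupOf.2 hx), rfl⟩, map_subtype_le _, k, k.2,
    fun q hq => ⟨k * ⟨q, hQK hq⟩ * k⁻¹, ?_, rfl⟩⟩
  rw [← hk]
  show k * ⟨q, hQK hq⟩ * k⁻¹ ∈ ((k • Q' : Sylow 2 K) : Subgroup K)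
  rw [Sylow.coe_subgroup_smul]
  exact ⟨⟨q, hQK hq⟩, hQ' (mem_subgroupOf.2 hq), rfl⟩

end Tools

namespace Setting

variable {S : Sylow 2 G} {A : Subgroup G} (s : Setting S A)

include s

theorem le : A ≤ (S : Subgroup G) := s.closed.1

theorem conj_mem {a : G} (ha : a ∈ A) {g : G} (h : g * a * g⁻¹ ∈ (S : Subgroup G)) : g * a * g⁻¹ ∈ A :=
  s.closed.2 a ha g h

theorem inv_eq {a : G} (ha : a ∈ A) : a⁻¹ = a := inv_eq_of_mul_eq_one_right (s.sq a ha)

theorem comm {a b : G} (ha : a ∈ A) (hb : b ∈ A) : Commute a b := s.central a ha b (s.le hb)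

theorem le_centralizer : (S : Subgroup G) ≤ centralizer (A : Set G) := fun x hx =>
  mem_centralizer_iff.2 fun a ha => (s.central a ha x hx).eq

variable [Finite G]

theorem four {a b : G} (ha : a ∈ A) (hb : b ∈ A) (ha1 : a ≠ 1) (hb1 : b ≠ 1) (hab : a ≠ b) {x : G}
    (hx : x ∈ A) : x = 1 ∨ x = a ∨ x = b ∨ x = a * b := by
  classical
  have := Fintype.ofFinite A
  by_contra hne
  push Not at hne
  have h1 : a * b ≠ 1 := fun h => hab (by rw [eq_inv_of_mul_eq_one_left h, s.inv_eq hb])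
  have h2 : a * b ≠ a := fun h => hb1 (mul_eq_left.1 h)
  have h3 : a * b ≠ b := fun h => ha1 (mul_eq_right.1 h)
  let t : Finset A := {1, ⟨a, ha⟩, ⟨b, hb⟩, ⟨a * b, mul_mem ha hb⟩, ⟨x, hx⟩}
  have ht : t.card = 5 := by
    simp only [t]
    repeat rw [Finset.card_insert_of_notMem]
    · simp
    all_goals simp [Subtype.ext_iff, ha1.symm, hb1.symm, h1.symm, hab, h2.symm, h3.symm, hne.1.symm,
      hne.2.1.symm, hne.2.2.1.symm, hne.2.2.2.symm]
  have := t.card_le_univ
  rw [ht, ← Nat.card_eq_fintype_card, s.card] at this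
  omega

theorem exists_third {a : G} (ha : a ∈ A) : ∃ b ∈ A, b ≠ 1 ∧ b ≠ a := by
  classical
  have := Fintype.ofFinite A
  by_contra h
  push Not at h
  have hsub : (Finset.univ : Finset A) ⊆ {1, ⟨a, ha⟩} := fun x _ => by
    by_cases hx : (x : G) = 1
    · exact Finset.mem_insert.2 (Or.inl (Subtype.ext hx))
    · exact Finset.mem_insert.2 (Or.inr (Finset.mem_singleton.2 (Subtype.ext (h _ x.2 hx))))
  have := (Finset.card_le_card hsub).trans Finset.card_le_two
  rw [Finset.card_univ, ← Nat.card_eq_fintype_card, s.card] at this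
  omega

theorem exists_ne_one : ∃ a ∈ A, a ≠ 1 :=
  let ⟨b, hb, h1, _⟩ := s.exists_third (one_mem A)
  ⟨b, hb, h1⟩

/-- Two elements outside `{1, e}` lie in one coset of it. -/
theorem mul_mem_pair {e a b : G} (he : e ∈ A) (he1 : e ≠ 1) (ha : a ∈ A) (hb : b ∈ A)
    (ha1 : a ≠ 1) (hae : a ≠ e) (hb1 : b ≠ 1) (hbe : b ≠ e) : a * b = 1 ∨ a * b = e := by
  rcases s.four he ha he1 ha1 hae.symm hb with h | h | h | h
  · exact absurd h hb1
  · exact absurd h hbe
  · exact Or.inl (by rw [h, s.sq a ha])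
  · exact Or.inr (by rw [h, ← mul_assoc, (s.comm ha he).eq, mul_assoc, s.sq a ha, mul_one])

theorem normalizer_le : normalizer ((S : Subgroup G) : Set G) ≤ normalizer (A : Set G) := fun _ hg =>
  mem_normalizer_of_map fun a ha => s.conj_mem ha ((mem_normalizer_iff.1 hg a).1 (s.le ha))

/-- `A` is weakly closed. -/
theorem mem_normalizer_of_conj_le {g : G} (h : ∀ a ∈ A, g * a * g⁻¹ ∈ (S : Subgroup G)) :
    g ∈ normalizer (A : Set G) :=
  mem_normalizer_of_map fun a ha => s.conj_mem ha (h a ha)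

/-- `N(A)` controls fusion in `S`. -/
theorem fusion {x g : G} (hx : x ∈ (S : Subgroup G)) (hgx : g * x * g⁻¹ ∈ (S : Subgroup G)) :
    ∃ n ∈ normalizer (A : Set G), n * x * n⁻¹ = g * x * g⁻¹ := by
  haveI : Fact (Nat.Prime 2) := ⟨Nat.prime_two⟩
  set y := g * x * g⁻¹ with hy
  have hAK : A ≤ centralizer ({y} : Set G) := fun a ha =>
    mem_centralizer_singleton_iff.2 (s.central a ha y hgx).eq
  have hA : IsPGroup 2 A := S.2.to_le s.le
  obtain ⟨R, hR, hAR, -, k, hk, hkQ⟩ := exists_conj_le hA hAK (hA.map (MulAut.conj g).toMonoidHom)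
    (by
      rintro _ ⟨a, ha, rfl⟩
      exact mem_centralizer_singleton_iff.2 (Commute.map (s.central a ha x hx) (MulAut.conj g).toMonoidHom).eq)
  obtain ⟨h, hh⟩ := CfsgLib.Techniques.exists_conj_mem_sylow S hR
  have h1 : h ∈ normalizer (A : Set G) := s.mem_normalizer_of_conj_le fun a ha => hh a (hAR ha)
  have h2 : h * k * g ∈ normalizer (A : Set G) := s.mem_normalizer_of_conj_le fun a ha => by
    have := hh _ (hkQ _ ⟨a, ha, rfl⟩)
    simp only [MulEquiv.coe_toMonoidHom, MulAut.conj_apply] at this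
    convert this using 1
    group
  refine ⟨k * g, ?_, ?_⟩
  · rw [show k * g = h⁻¹ * (h * k * g) by group]
    exact mul_mem (inv_mem h1) h2
  · rw [show k * g * x * (k * g)⁻¹ = k * y * k⁻¹ by rw [hy]; group,
      mem_centralizer_singleton_iff.1 hk, mul_inv_cancel_right]

omit [Finite G] in
theorem conj_centralizer {n c : G} (hn : n ∈ normalizer (A : Set G)) (hc : c ∈ centralizer (A : Set G)) :
    n * c * n⁻¹ ∈ centralizer (A : Set G) := by
  refine mem_centralizer_iff.2 fun a ha => ?_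
  have h1 := mem_centralizer_iff.1 hc (n⁻¹ * a * n)
    (by simpa using (mem_normalizer_iff''.1 hn a).1 ha)
  calc a * (n * c * n⁻¹) = n * (n⁻¹ * a * n * c) * n⁻¹ := by group
    _ = n * (c * (n⁻¹ * a * n)) * n⁻¹ := by rw [h1]
    _ = _ := by group

/-- The Frattini argument. -/
theorem frattini {n : G} (hn : n ∈ normalizer (A : Set G)) :
    ∃ c ∈ centralizer (A : Set G), ∃ m ∈ normalizer ((S : Subgroup G) : Set G), n = c * m := by
  have hQ : (S : Subgroup G).map (MulAut.conj n).toMonoidHom ≤ centralizer (A : Set G) := by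
    rintro _ ⟨x, hx, rfl⟩
    exact s.conj_centralizer hn (s.le_centralizer hx)
  obtain ⟨R, hR, hSR, -, k, hk, hkQ⟩ := exists_conj_le S.2 s.le_centralizer (S.2.map _) hQ
  obtain rfl : R = (S : Subgroup G) := S.3 hR hSR
  refine ⟨k⁻¹, inv_mem hk, k * n, mem_normalizer_of_map fun x hx => ?_, (inv_mul_cancel_left k n).symm⟩
  have := hkQ _ ⟨x, hx, rfl⟩
  simp only [MulEquiv.coe_toMonoidHom, MulAut.conj_apply] at this
  convert this using 1
  group

theorem exists_pow_mem {m : G} (hm : m ∈ normalizer ((S : Subgroup G) : Set G)) :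
    ∃ k, Odd k ∧ m ^ k ∈ (S : Subgroup G) := by
  haveI : Fact (Nat.Prime 2) := ⟨Nat.prime_two⟩
  haveI : ((S : Subgroup G).subgroupOf (normalizer ((S : Subgroup G) : Set G))).Normal :=
    normal_in_normalizer
  refine ⟨((S : Subgroup G).subgroupOf (normalizer ((S : Subgroup G) : Set G))).index, ?_, ?_⟩
  · rw [← Nat.not_even_iff_odd, even_iff_two_dvd]
    exact fun h => S.not_dvd_index (h.trans (relIndex_dvd_index_of_le le_normalizer))
  · exact mem_subgroupOf.1 (Subgroup.pow_index_mem _ (⟨m, hm⟩ : normalizer ((S : Subgroup G) : Set G)))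

/-- An element of `N(A)` fixing one involution of `A` centralises `A`. -/
theorem fix_one {n : G} (hn : n ∈ normalizer (A : Set G)) {a : G} (ha : a ∈ A) (ha1 : a ≠ 1)
    (hfix : n * a * n⁻¹ = a) : n ∈ centralizer (A : Set G) := by
  obtain ⟨c, hc, m, hm, rfl⟩ := s.frattini hn
  refine mul_mem hc (mem_centralizer_iff.2 fun b hb => ?_)
  suffices h : m * b * m⁻¹ = b by exact (mul_inv_eq_iff_eq_mul.1 h).symm
  have hmA := s.normalizer_le hm
  have hca : ∀ x ∈ A, c * x * c⁻¹ = x := fun x hx => by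
    rw [← mem_centralizer_iff.1 hc x hx, mul_inv_cancel_right]
  have hma : m * a * m⁻¹ = a := by
    have h1 : c * (m * a * m⁻¹) * c⁻¹ = a :=
      (show c * (m * a * m⁻¹) * c⁻¹ = c * m * a * (c * m)⁻¹ by group).trans hfix
    rwa [hca _ ((mem_normalizer_iff.1 hmA a).1 ha)] at h1
  by_cases hb1 : b = 1
  · simp [hb1]
  by_cases hab : a = b
  · rw [← hab, hma]
  have hswap : m * b * m⁻¹ = a * b ∨ m * b * m⁻¹ = b := by
    rcases s.four ha hb ha1 hb1 hab ((mem_normalizer_iff.1 hmA b).1 hb) with h | h | h | h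
    · exact absurd (conj_eq_one_iff.1 h) hb1
    · exact absurd (mul_left_cancel (mul_right_cancel (h.trans hma.symm))).symm hab
    · exact Or.inr h
    · exact Or.inl h
  refine hswap.resolve_left fun h => ?_
  obtain ⟨k, ⟨j, rfl⟩, hk⟩ := s.exists_pow_mem hm
  have e2 : (m * m) * b * (m * m)⁻¹ = b := by
    rw [show (m * m) * b * (m * m)⁻¹ = m * (m * b * m⁻¹) * m⁻¹ by group, h,
      show m * (a * b) * m⁻¹ = (m * a * m⁻¹) * (m * b * m⁻¹) by group, hma, h, ← mul_assoc, s.sq a ha,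
      one_mul]
  have e3 : ∀ i, Commute ((m * m) ^ i) b := fun i => Commute.pow_left (mul_inv_eq_iff_eq_mul.1 e2) i
  have e4 : m ^ (2 * j + 1) * b * (m ^ (2 * j + 1))⁻¹ = a * b := by
    rw [pow_succ', pow_mul, pow_two,
      show m * (m * m) ^ j * b * (m * (m * m) ^ j)⁻¹ = m * ((m * m) ^ j * b * ((m * m) ^ j)⁻¹) * m⁻¹ by
        group, (e3 j).eq, mul_inv_cancel_right, h]
  rw [← (s.central b hb _ hk).eq, mul_inv_cancel_right] at e4
  exact ha1 (mul_eq_right.1 e4.symm)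

/-- Transitivity realised in `N(S)`. -/
theorem trans_sylow {a b : G} (ha : a ∈ A) (hb : b ∈ A) (ha1 : a ≠ 1) (hb1 : b ≠ 1) :
    ∃ m ∈ normalizer ((S : Subgroup G) : Set G), m * a * m⁻¹ = b := by
  obtain ⟨n, hn, e⟩ := s.trans a ha b hb ha1 hb1
  obtain ⟨c, hc, m, hm, rfl⟩ := s.frattini hn
  refine ⟨m, hm, ?_⟩
  have h1 : c * (m * a * m⁻¹) * c⁻¹ = b :=
    (show c * (m * a * m⁻¹) * c⁻¹ = c * m * a * (c * m)⁻¹ by group).trans e
  rwa [← mem_centralizer_iff.1 hc _ ((mem_normalizer_iff.1 (s.normalizer_le hm) a).1 ha),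
    mul_inv_cancel_right] at h1

/-- Transfer: an element with square in `A` has a conjugate inside every subgroup of index two. -/
theorem transfer {T : Subgroup G} (hTS : T ≤ (S : Subgroup G)) (hAT : A ≤ T)
    (hT : T.relIndex (S : Subgroup G) = 2) {g : G} (hg : g ∈ (S : Subgroup G)) (hg2 : g * g ∈ A)
    (h : ∀ k : G, k * g * k⁻¹ ∈ (S : Subgroup G) → k * g * k⁻¹ ∉ T) : False := by
  refine s.no_two (CfsgLib.AschCrit.extremalTransfer G S T hTS hT g hg ?_ ?_)
  · intro r k hr hk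
    obtain ⟨i, rfl⟩ := hr
    refine hAT (s.conj_mem ?_ hk)
    rw [pow_add, ← (Commute.refl g).mul_pow]
    exact pow_mem hg2 i
  · rintro w hw ⟨k, rfl⟩ -
    exact h k hw

/-- A subgroup given by a nontrivial two-valued homomorphism has index two. -/
theorem relIndex_two {T : Subgroup G} (hTS : T ≤ (S : Subgroup G)) {x : G} (hx : x ∈ (S : Subgroup G))
    (hxT : x ∉ T) (h : ∀ g ∈ (S : Subgroup G), g ∈ T ∨ g * x ∈ T) : T.relIndex (S : Subgroup G) = 2 := by
  refine index_eq_two_iff.2 ⟨⟨x, hx⟩, fun b => ?_⟩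
  simp only [mem_subgroupOf, coe_mul]
  rcases h b b.2 with hb | hb
  · exact Or.inr ⟨hb, fun h' => hxT (by simpa using mul_mem (inv_mem hb) h')⟩
  · exact Or.inl ⟨hb, fun h' => hxT (by simpa using mul_mem (inv_mem h') hb)⟩

/-- No homomorphism `S → A/⟨e⟩` is nontrivial on all outer involutions. -/
theorem no_char (f : G → G) {e : G} (he : e ∈ A) (he1 : e ≠ 1)
    (hfA : ∀ g ∈ (S : Subgroup G), f g ∈ A)
    (hmul : ∀ g ∈ (S : Subgroup G), ∀ k ∈ (S : Subgroup G), f (g * k) = f g * f k)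
    (hA : ∀ a ∈ A, f a = 1)
    (hout : ∀ x ∈ (S : Subgroup G), x * x = 1 → x ∉ A → f x ≠ 1 ∧ f x ≠ e) : False := by
  have h1 : f 1 = 1 := hA 1 (one_mem A)
  let T : Subgroup G :=
    { carrier := {g | g ∈ (S : Subgroup G) ∧ (f g = 1 ∨ f g = e)}
      one_mem' := ⟨one_mem _, Or.inl h1⟩
      mul_mem' := by
        rintro g k ⟨hg, hg'⟩ ⟨hk, hk'⟩
        refine ⟨mul_mem hg hk, ?_⟩
        rw [hmul g hg k hk]
        rcases hg' with a | a <;> rcases hk' with b | b <;> simp [a, b, s.sq e he]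
      inv_mem' := by
        rintro g ⟨hg, hg'⟩
        refine ⟨inv_mem hg, ?_⟩
        have e1 : f g * f g⁻¹ = 1 := by rw [← hmul g hg _ (inv_mem hg), mul_inv_cancel, h1]
        rw [show f g⁻¹ = f g from (eq_inv_of_mul_eq_one_right e1).trans (s.inv_eq (hfA g hg))]
        exact hg' }
  obtain ⟨u, huS, hu2, huA⟩ := s.out
  obtain ⟨hu1, hue⟩ := hout u huS hu2 huA
  have hAT : A ≤ T := fun a ha => ⟨s.le ha, Or.inl (hA a ha)⟩
  refine s.transfer (T := T) (fun g hg => hg.1) hAT (s.relIndex_two (fun g hg => hg.1) huS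
    (fun h => h.2.elim hu1 hue) fun g hg => ?_) huS (by rw [hu2]; exact one_mem A) fun k hk hkT => ?_
  · by_cases h : f g = 1 ∨ f g = e
    · exact Or.inl ⟨hg, h⟩
    · push Not at h
      refine Or.inr ⟨mul_mem hg huS, ?_⟩
      rw [hmul g hg u huS]
      exact s.mul_mem_pair he he1 (hfA g hg) (hfA u huS) h.1 h.2 hu1 hue
  · by_cases hkA : k * u * k⁻¹ ∈ A
    · refine huA ?_
      have := s.conj_mem hkA (g := k⁻¹) (by simpa [mul_assoc] using huS)
      simpa [mul_assoc] using this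
    · have h2 : k * u * k⁻¹ * (k * u * k⁻¹) = 1 := by
        rw [show k * u * k⁻¹ * (k * u * k⁻¹) = k * (u * u) * k⁻¹ by group, hu2, mul_one, mul_inv_cancel]
      exact hkT.2.elim (hout _ hk h2 hkA).1 (hout _ hk h2 hkA).2

end Setting

end CfsgLib.Goldschmidt.RankTwo
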